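import Cfsg.Agent.EqLemmas
/-!
# Interfaces of the proof of Suzuki's rank one theorem (S1136)

* `KernelShape` : the regular normal subgroup is a 2-group, elementary abelian if abelian
  (character theory: coherence and one column of the character table).
* `SuzukiShape` : the case `|Q| = q²`.
* `UnitaryModel` : `PSU₃(q)`, `q` even, is an example of the case `|Q| = q³`.
The case `|Q| = q` and the identification in the case `|Q| = q³` are in `Elementary` and `Unitary`.
-/

set_option autoImplicit false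

namespace Cfsg.Agent.SuzukiRankOne

open MulAction

universe u v

/-- Two distinct commuting involutions. -/
def TwoInvolutions (G : Type*) [Group G] : Prop :=
  ∃ x y : G, x ≠ 1 ∧ y ≠ 1 ∧ x ≠ y ∧ x * x = 1 ∧ y * y = 1 ∧ x * y = y * x

/-- One more than the number of involutions fixing `a`; the parameter `q`. -/
noncomputable def param (G : Type*) {Ω : Type*} [Group G] [MulAction G Ω] (a : Ω) : ℕ :=
  Nat.card (Cfsg.involutionsIn (stabilizer G a : Set G)) + 1

/-- `Q` is a 2-group, and is elementary abelian if abelian. -/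
def KernelShape : Prop :=
  ∀ (G : Type u) (Ω : Type v) [Group G] [Finite G] [MulAction G Ω] [FaithfulSMul G Ω]
    (a : Ω) (t : G) (Q : Subgroup G), Cfsg.IsRankOneSetup G Ω a t Q → TwoInvolutions G →
    IsPGroup 2 Q ∧ (IsMulCommutative Q → ∀ x ∈ Q, x * x = 1)

/-- The Suzuki case. -/
def SuzukiShape : Prop :=
  ∀ (G : Type u) (Ω : Type v) [Group G] [Finite G] [MulAction G Ω] [FaithfulSMul G Ω]
    (a : Ω) (t : G) (Q : Subgroup G), Cfsg.IsRankOneSetup G Ω a t Q → TwoInvolutions G →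
    IsPGroup 2 Q → ¬ IsMulCommutative Q → Nat.card Q = param G a ^ 2 →
    ∃ L : Subgroup G, L.Normal ∧ Odd L.index ∧ Cfsg.Lie.IsoSuzuki L

/-- The unitary group as a rank one set-up with `|Q| = q³`. -/
def UnitaryModel : Prop :=
  ∀ (F : Type) [Field F] [Fintype F] (n : ℕ), 2 ≤ n → Fintype.card F = (2 ^ n) ^ 2 →
    ∃ (Ω : Type) (_ : MulAction (Cfsg.PSU 3 F (2 ^ n)) Ω) (_ : FaithfulSMul (Cfsg.PSU 3 F (2 ^ n)) Ω)
      (a : Ω) (t : Cfsg.PSU 3 F (2 ^ n)) (Q : Subgroup (Cfsg.PSU 3 F (2 ^ n))),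
      Cfsg.IsRankOneSetup (Cfsg.PSU 3 F (2 ^ n)) Ω a t Q ∧ TwoInvolutions (Cfsg.PSU 3 F (2 ^ n)) ∧
      IsPGroup 2 Q ∧ ¬ IsMulCommutative Q ∧
      param (Cfsg.PSU 3 F (2 ^ n)) a = 2 ^ n ∧ Nat.card Q = (2 ^ n) ^ 3

end Cfsg.Agent.SuzukiRankOne
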