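import Cfsg.Agent.Lib.SuzukiRankOne.Regular
/-!
# The case `|Q| = q`

* `Coords.exists_frame` : if `r` is an involution then `r = z 1` and there is a frame;
* `elementary_case` : if every element of `Q` squares to `1` then `G` has a normal subgroup of odd
  index isomorphic to `PSL₂(q)`.
-/

set_option autoImplicit false

namespace Cfsg.Agent.SuzukiRankOne

open MulAction Cfsg.Agent.RankOne Cfsg.Agent.RankOne.Setup
open scoped MatrixGroups

universe u v w

variable {G : Type u} {Ω : Type v} [Group G] [Finite G] [MulAction G Ω] {a : Ω} {t : G}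
  {Q : Subgroup G} {F : Type w} [Field F]

local notation "DD" => (stabilizer G a ⊓ stabilizer G (t • a) : Subgroup G)
local notation "KK" => Cfsg.invertedBy (stabilizer G a ⊓ stabilizer G (t • a)) t

theorem Coords.exists_frame (h : Cfsg.IsRankOneSetup G Ω a t Q) (h2 : TwoInvolutions G)
    (C : Coords a t Q F) {r : G} (hr : r ∈ Q) (he : t * C.z 1 * t = r⁻¹ * t * r) (hr2 : r * r = 1) :
    ∃ P : Frame a t Q F, P.co = C := by
  have hri : r⁻¹ = r := inv_eq_of_mul_eq_one_right hr2
  rw [hri] at he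
  have htt : ∀ x : G, t * (t * x) = x := fun x => by rw [← mul_assoc, h.mul_self, one_mul]
  have hrr : ∀ x : G, r * (r * x) = x := fun x => by rw [← mul_assoc, hr2, one_mul]
  have e1 : t * r * t = C.z 1 * t * r := by
    have := congrArg (fun y => t * y * r) he
    simp only [mul_assoc, htt, hr2, mul_one] at this ⊢
    exact this.symm
  have e2 : C.z 1 * t * r = r * t * C.z 1 := by
    have h1 : t * r * t * (t * r * t) = 1 := by simp [mul_assoc, htt, hrr, h.mul_self]
    rw [e1] at h1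
    have := inv_eq_of_mul_eq_one_right h1
    rwa [mul_inv_rev, mul_inv_rev, hri, t_inv h, C.z_inv, eq_comm, ← mul_assoc] at this
  have hrs : r = C.z 1 := by
    obtain ⟨e3, -, -⟩ := parts_unique h (g := C.z 1) (g' := r) (c := 1) (c' := 1) (f := r) (f' := C.z 1)
      (C.z_mem_Q h 1) hr (one_mem _) (one_mem _) hr (C.z_mem_Q h 1) (by rw [mul_one, mul_one]; exact e2)
    exact e3.symm
  exact ⟨⟨h, h2, C, by rw [hrs] at he; exact he.symm⟩, rfl⟩

namespace Frame

variable [FaithfulSMul G Ω] [Finite F] [CharP F 2] (P : Frame a t Q F)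

theorem z_mem_range (x : F) : P.co.z x ∈ P.hom.range := ⟨_, P.hom_upSL x⟩

theorem k_mem_range (b : Fˣ) : P.co.k b ∈ P.hom.range := ⟨_, P.hom_dSL b⟩

theorem t_mem_range : t ∈ P.hom.range := ⟨_, P.hom_wSL⟩

omit [FaithfulSMul G Ω] in
/-- `d t d⁻¹ t ∈ K`. -/
theorem dd_conj_t (h : Cfsg.IsRankOneSetup G Ω a t Q) {d : G} (hd : d ∈ DD) : d * t * d⁻¹ * t ∈ KK := by
  have hd' := t_conj_mem h (inv_mem hd)
  refine (mem_kk h).2 ⟨by rw [mul_assoc, mul_assoc, ← mul_assoc t]; exact mul_mem hd hd', ?_⟩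
  have htt : ∀ x : G, t * (t * x) = x := fun x => by rw [← mul_assoc, h.mul_self, one_mul]
  simp [mul_assoc, t_inv h, htt, h.mul_self]

end Frame

/-- The case of an elementary abelian kernel. -/
theorem elementary_case [FaithfulSMul G Ω] (h : Cfsg.IsRankOneSetup G Ω a t Q) (h2 : TwoInvolutions G)
    (hQ : ∀ x ∈ Q, x * x = 1) :
    ∃ L : Subgroup G, L.Normal ∧ Odd L.index ∧
      ∃ (F : Type) (_ : Field F) (_ : Fintype F), (∃ n : ℕ, 2 ≤ n ∧ Fintype.card F = 2 ^ n) ∧
        Nonempty (L ≃* Matrix.ProjectiveSpecialLinearGroup (Fin 2) F) := by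
  classical
  obtain ⟨n, hn, hq, ⟨C⟩⟩ := exists_coords h h2
  obtain ⟨r, hr, he⟩ := C.dist
  letI := Fintype.ofFinite (GaloisField 2 n)
  obtain ⟨P, rfl⟩ := C.exists_frame h h2 hr he (hQ r hr)
  have hQz : ∀ x ∈ Q, ∃ y, P.co.z y = x := fun x hx => P.co.z_surj x (h.le hx) (hQ x hx)
  have hgen : ∀ g : G, ∃ l ∈ P.hom.range, ∃ d ∈ DD, g = l * d := by
    intro g
    by_cases hg : g ∈ stabilizer G a
    · obtain ⟨x, hx, d, hd, rfl⟩ := exists_decomp h hg
      obtain ⟨y, rfl⟩ := hQz x hx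
      exact ⟨_, P.z_mem_range y, d, hd, rfl⟩
    · obtain ⟨⟨g1, f⟩, ⟨hg1, hf, e⟩, -⟩ := existsUnique_canonical h hg
      obtain ⟨x, hx, d, hd, rfl⟩ := exists_decomp h hg1
      obtain ⟨y, rfl⟩ := hQz x hx
      have hd' := t_conj_mem h hd
      obtain ⟨y', hy'⟩ := hQz _ (h.conj_mem _ hd'.1 f hf)
      refine ⟨P.co.z y * t * P.co.z y', mul_mem (mul_mem (P.z_mem_range y) P.t_mem_range)
        (P.z_mem_range y'), _, hd', ?_⟩
      have htt : ∀ x : G, t * (t * x) = x := fun x => by rw [← mul_assoc, h.mul_self, one_mul]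
      rw [e, hy']
      simp [mul_assoc, htt, t_inv h, h.mul_self]
  -- generators of `⟨Z, t⟩`
  have hker : ∀ d ∈ DD, ∀ g ∈ P.hom.range, d * g * d⁻¹ ∈ P.hom.range := by
    intro d hd
    let S : Subgroup SL(2, GaloisField 2 n) := (P.hom.range.comap ((MulAut.conj d).toMonoidHom)).comap P.hom
    have hw : SL2Data.wSL (GaloisField 2 n) ∈ S := by
      show d * P.hom _ * d⁻¹ ∈ P.hom.range
      rw [P.hom_wSL]
      obtain ⟨b, hb⟩ := P.co.k_surj _ (Frame.dd_conj_t h hd)
      have : d * t * d⁻¹ = P.co.k b * t := by rw [hb, mul_assoc _ t t, h.mul_self, mul_one]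
      rw [this]
      exact mul_mem (P.k_mem_range b) P.t_mem_range
    have hup : ∀ x, upSL x ∈ S := fun x => by
      show d * P.hom _ * d⁻¹ ∈ P.hom.range
      rw [P.hom_upSL]
      obtain ⟨y, hy⟩ := hQz _ (h.conj_mem d hd.1 _ (P.co.z_mem_Q h x))
      exact hy ▸ P.z_mem_range y
    have hS : S = ⊤ := by
      rw [eq_top_iff, ← lower_sup_upper]
      refine sup_le (fun z hz => ?_) (fun z hz => ?_)
      · obtain ⟨x, rfl⟩ := mem_lowerUnipotentSL2.1 hz
        have e : loSL x = SL2Data.wSL _ * upSL (-x) * (SL2Data.wSL _)⁻¹ := by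
          rw [eq_mul_inv_iff_mul_eq]
          apply Subtype.ext
          simp [SL2Data.coe_wSL, coe_loSL, coe_upSL]
        rw [e]
        exact S.mul_mem (S.mul_mem hw (hup _)) (S.inv_mem hw)
      · obtain ⟨x, rfl⟩ := mem_upperUnipotentSL2.1 hz
        exact hup x
    rintro _ ⟨g, rfl⟩
    exact (show g ∈ S from hS ▸ Subgroup.mem_top g)
  have hN : P.hom.range.Normal := ⟨fun l hl g => by
    obtain ⟨l', hl', d, hd, rfl⟩ := hgen g
    have := mul_mem (mul_mem hl' (hker d hd l hl)) (inv_mem hl')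
    simpa [mul_assoc] using this⟩
  haveI := hN
  refine ⟨P.hom.range, hN, ?_, GaloisField 2 n, inferInstance, Fintype.ofFinite _, ⟨n, hn, ?_⟩, ?_⟩
  · refine h.odd_card.of_dvd_nat ?_
    have hsur : Function.Surjective ((QuotientGroup.mk' P.hom.range).comp
        (stabilizer G a ⊓ stabilizer G (t • a)).subtype) := by
      intro x
      obtain ⟨g, rfl⟩ := QuotientGroup.mk'_surjective P.hom.range x
      obtain ⟨l, hl, d, hd, rfl⟩ := hgen g
      refine ⟨⟨d, hd⟩, ?_⟩
      rw [map_mul, show (QuotientGroup.mk' P.hom.range) l = 1 from (QuotientGroup.eq_one_iff l).2 hl,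
        one_mul]
      rfl
    rw [Subgroup.index_eq_card]
    exact Subgroup.card_dvd_of_surjective _ hsur
  · rw [← Nat.card_eq_fintype_card, GaloisField.card 2 n (by omega)]
  · have hc : Subgroup.center SL(2, GaloisField 2 n) = ⊥ := by
      rw [Subgroup.eq_bot_iff_forall]
      intro g hg
      obtain ⟨c, hc, he⟩ := Matrix.SpecialLinearGroup.mem_center_iff.1 hg
      rw [Fintype.card_fin] at hc
      have hc1 : c = 1 := frobenius_inj _ 2 (by simpa [frobenius_def] using hc)
      apply Subtype.ext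
      rw [← he, hc1, map_one]
      rfl
    exact ⟨(MonoidHom.ofInjective P.hom_injective).symm.trans
      ((QuotientGroup.quotientBot (G := SL(2, GaloisField 2 n))).symm.trans
        (QuotientGroup.quotientMulEquivOfEq hc.symm))⟩

end Cfsg.Agent.SuzukiRankOne
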