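import Cfsg.Agent.Lib.SuzukiRankOne.Coords
import Cfsg.Agent.Lib.RankOne.Steinberg
/-!
# The group `⟨Z, t⟩ ≅ SL₂(q)` and the action of `D`

* `Coords.exists_semilinear` : `d ∈ D` acts as `z x ↦ z (c σ x)`, `k b ↦ k (σ b)`.
* `Frame` : coordinates with `z 1 * t * z 1 = t * z 1 * t`; `Frame.hom : SL(2, F) →* G`, with
  `hom (upSL x) = z x`, `hom (dSL b) = k b`, `hom (wSL F) = t`, injective.
-/

set_option autoImplicit false

namespace Cfsg.Agent.SuzukiRankOne

open MulAction Cfsg.Agent.RankOne Cfsg.Agent.RankOne.Setup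
open scoped MatrixGroups

universe u v w

variable {G : Type u} {Ω : Type v} [Group G] [MulAction G Ω] {a : Ω} {t : G} {Q : Subgroup G}
  {F : Type w} [Field F]

local notation "DD" => (stabilizer G a ⊓ stabilizer G (t • a) : Subgroup G)
local notation "II" => Cfsg.involutionsIn (stabilizer G a : Set G)
local notation "KK" => Cfsg.invertedBy (stabilizer G a ⊓ stabilizer G (t • a)) t

namespace Coords

variable (C : Coords a t Q F)
include C

theorem z_zero : C.z 0 = 1 := by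
  have := C.z_add 0 0
  rwa [add_zero, left_eq_mul] at this

theorem z_sq (x : F) : C.z x * C.z x = 1 := (C.z_mem x).2

theorem z_inv (x : F) : (C.z x)⁻¹ = C.z x := inv_eq_of_mul_eq_one_right (C.z_sq x)

theorem z_eq_one {x : F} : C.z x = 1 ↔ x = 0 := by
  rw [← C.z_zero]; exact C.z_inj.eq_iff

theorem z_smul_a (x : F) : C.z x • a = a := (C.z_mem x).1

theorem z_comm (x y : F) : C.z x * C.z y = C.z y * C.z x := by rw [← C.z_add, ← C.z_add, add_comm]

theorem z_mem_ii {x : F} (hx : x ≠ 0) : C.z x ∈ II :=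
  ⟨(C.z_mem x).1, fun e => hx (C.z_eq_one.1 e), C.z_sq x⟩

theorem k_mem_dd (b : Fˣ) : C.k b ∈ DD := (C.k_mem b).1

variable [Finite G] (h : Cfsg.IsRankOneSetup G Ω a t Q)
include h

theorem z_mem_Q (x : F) : C.z x ∈ Q := by
  rcases eq_or_ne x 0 with rfl | hx
  · rw [C.z_zero]; exact one_mem _
  · exact mem_Q_of_ii h (C.z_mem_ii hx)

theorem t_k_t (b : Fˣ) : t * C.k b * t = C.k b⁻¹ := by
  rw [((mem_kk h).1 (C.k_mem b)).2, map_inv]

theorem k_t (b : Fˣ) : C.k b * t = t * C.k b⁻¹ := by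
  rw [← C.t_k_t h b, ← mul_assoc t, ← mul_assoc t, h.mul_self, one_mul]

theorem z_ne_t {x : F} : C.z x ≠ t := fun e => t_smul_ne h (by rw [← e, C.z_smul_a])

omit h in
variable [FaithfulSMul G Ω] in
theorem z_commute (h : Cfsg.IsRankOneSetup G Ω a t Q) (h2 : TwoInvolutions G) (x : F) {u : G} (hu : u ∈ Q) :
    C.z x * u = u * C.z x := by
  rcases eq_or_ne x 0 with rfl | hx
  · rw [C.z_zero, one_mul, mul_one]
  · exact commute_ii h h2 (C.z_mem_ii hx) hu

variable [Finite F] [CharP F 2]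

theorem exists_semilinear [FaithfulSMul G Ω] (h2 : TwoInvolutions G) {d : G} (hd : d ∈ DD) :
    ∃ (c : Fˣ) (σ : F ≃+* F), (∀ x, d * C.z x * d⁻¹ = C.z ((c : F) * σ x)) ∧
      ∀ b : Fˣ, d * C.k b * d⁻¹ = C.k (Units.map (σ : F →* F) b) := by
  classical
  obtain ⟨K, hK, -, hKn⟩ := S1131.result h h2
  have hf : ∀ x, ∃ y, C.z y = d * C.z x * d⁻¹ := fun x => by
    refine C.z_surj _ (mul_mem (mul_mem hd.1 (C.z_mem x).1) (inv_mem hd.1)) ?_
    rw [show d * C.z x * d⁻¹ * (d * C.z x * d⁻¹) = d * (C.z x * C.z x) * d⁻¹ by group, C.z_sq]; group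
  choose f hf using hf
  have hg : ∀ b, ∃ b', C.k b' = d * C.k b * d⁻¹ := fun b => by
    refine C.k_surj _ ?_
    rw [← hK]
    exact hKn d hd _ (show C.k b ∈ (K : Set G) by rw [hK]; exact C.k_mem b)
  choose g hg using hg
  have hadd : ∀ x y, f (x + y) = f x + f y := fun x y => C.z_inj (by
    rw [C.z_add, hf, hf, hf, C.z_add]; group)
  have hmul : ∀ (b : Fˣ) (x : F), f ((b : F) * b * x) = (g b : F) * g b * f x := fun b x => C.z_inj (by
    rw [← C.k_conj, hf, hf, ← C.k_conj, hg]; group)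
  have hf0 : ∀ x, f x = 0 → x = 0 := fun x e => C.z_eq_one.1 (conj_eq_one_iff.1 (by
    rw [← hf x, e, C.z_zero]))
  have hc : f 1 ≠ 0 := fun e => one_ne_zero (hf0 1 e)
  have hsq : ∀ y : F, ∃ b : F, b * b = y := fun y => by
    letI := Fintype.ofFinite F
    obtain ⟨b, hb⟩ := FiniteField.isSquare_of_char_two (ringChar.eq F 2) y
    exact ⟨b, hb.symm⟩
  let τ : F → F := fun x => f x / f 1
  have hτm : ∀ (b : Fˣ) (x : F), τ ((b : F) * b * x) = (g b : F) * g b * τ x := fun b x => by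
    simp only [τ, hmul, mul_div_assoc]
  have hτg : ∀ b : Fˣ, τ ((b : F) * b) = (g b : F) * g b := fun b => by
    have := hτm b 1
    rwa [mul_one, show τ 1 = 1 from div_self hc, mul_one] at this
  have hτmul : ∀ x y, τ (x * y) = τ x * τ y := by
    intro x y
    have h0 : τ 0 = 0 := by
      have := hadd 0 0
      rw [add_zero, left_eq_add] at this
      simp [τ, this]
    obtain ⟨b, rfl⟩ := hsq x
    rcases eq_or_ne b 0 with rfl | hb
    · simp [h0]
    · have e1 := hτm (Units.mk0 b hb) y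
      have e2 := hτg (Units.mk0 b hb)
      simp only [Units.val_mk0] at e1 e2
      rw [e1, e2]
  let τh : F →+* F :=
    { toFun := τ
      map_one' := div_self hc
      map_mul' := hτmul
      map_zero' := by
        have := hadd 0 0
        rw [add_zero, left_eq_add] at this
        simp [τ, this]
      map_add' := fun x y => by simp only [τ, hadd, add_div] }
  let σ : F ≃+* F := RingEquiv.ofBijective τh (Finite.injective_iff_bijective.1 τh.injective)
  refine ⟨Units.mk0 (f 1) hc, σ, fun x => ?_, fun b => ?_⟩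
  · rw [← hf]; congr 1
    show f x = f 1 * (f x / f 1)
    rw [mul_div_cancel₀ _ hc]
  · rw [← hg]; congr 1
    refine Units.ext (frobenius_inj F 2 ?_)
    show (g b : F) ^ 2 = σ (b : F) ^ 2
    rw [← map_pow, pow_two, pow_two]
    exact (hτg b).symm

end Coords

/-- `diag(b, b⁻¹)`. -/
def dSL (b : Fˣ) : SL(2, F) := ⟨!![(b : F), 0; 0, ((b⁻¹ : Fˣ) : F)], by simp [Matrix.det_fin_two]⟩

/-- Coordinates in which `⟨Z, t⟩` satisfies the relations of `SL₂`. -/
structure Frame (a : Ω) (t : G) (Q : Subgroup G) (F : Type w) [Field F] where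
  setup : Cfsg.IsRankOneSetup G Ω a t Q
  two : TwoInvolutions G
  co : Coords a t Q F
  braid : co.z 1 * t * co.z 1 = t * co.z 1 * t

namespace Frame

variable [Finite G] [Finite F] [CharP F 2] (P : Frame a t Q F)

theorem split : ∀ q : F, ¬ IsSquare q → ∃ u : F, ¬ IsSquare u ∧ ¬ IsSquare (1 - u) := fun q hq => by
  letI := Fintype.ofFinite F
  exact absurd (FiniteField.isSquare_of_char_two (ringChar.eq F 2) q) hq

include P in
theorem exists_sqrt' (b : Fˣ) : ∃ c : Fˣ, c * c = b := by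
  letI := Fintype.ofFinite F
  obtain ⟨c, hc⟩ := FiniteField.isSquare_of_char_two (ringChar.eq F 2) (b : F)
  exact ⟨Units.mk0 c (left_ne_zero_of_mul (hc ▸ b.ne_zero)), Units.ext hc.symm⟩

/-- `z 1 * (t * z τ⁻¹ * t) * z 1`, transported to every `τ`. -/
theorem weyl (b : Fˣ) :
    P.co.z (b : F) * (t * P.co.z (b : F)⁻¹ * t) * P.co.z (b : F) = P.co.k b * t ∧
      (t * P.co.z (b : F)⁻¹ * t) * P.co.z (b : F) * (t * P.co.z (b : F)⁻¹ * t) = P.co.k b * t := by
  obtain ⟨c, hc⟩ := P.exists_sqrt' b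
  have htt : ∀ x : G, t * (t * x) = x := fun x => by rw [← mul_assoc, P.setup.mul_self, one_mul]
  have hzz := P.co.z_sq (1 : F)
  have hzz' : ∀ x : G, P.co.z 1 * (P.co.z 1 * x) = x := fun x => by rw [← mul_assoc, hzz, one_mul]
  have e1 : P.co.z 1 * (t * P.co.z 1 * t) * P.co.z 1 = t := by
    rw [← P.braid]; simp [mul_assoc, hzz, hzz']
  have e2 : (t * P.co.z 1 * t) * P.co.z 1 * (t * P.co.z 1 * t) = t := by
    conv_lhs => arg 2; rw [← P.braid]
    conv_lhs => arg 1; arg 1; rw [← P.braid]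
    simp only [mul_assoc, hzz, mul_one, hzz']
    rw [← mul_assoc (P.co.z 1), ← mul_assoc (P.co.z 1 * t), P.braid]
    simp [mul_assoc, htt, hzz]
  have hz : P.co.z (b : F) = P.co.k c * P.co.z 1 * (P.co.k c)⁻¹ := by
    rw [P.co.k_conj, ← Units.val_mul, hc, mul_one]
  have hzi : P.co.z (b : F)⁻¹ = P.co.k c⁻¹ * P.co.z 1 * (P.co.k c⁻¹)⁻¹ := by
    rw [P.co.k_conj, ← Units.val_mul, ← mul_inv, hc, mul_one, Units.val_inv_eq_inv_val]
  have hm : t * P.co.z (b : F)⁻¹ * t = P.co.k c * (t * P.co.z 1 * t) * (P.co.k c)⁻¹ := by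
    have e3 : t * P.co.k c⁻¹ = P.co.k c * t := (P.co.k_t P.setup c).symm
    have e4 : (P.co.k c⁻¹)⁻¹ * t = t * (P.co.k c)⁻¹ := by
      rw [← map_inv, inv_inv, P.co.k_t P.setup, map_inv]
    rw [hzi]
    calc t * (P.co.k c⁻¹ * P.co.z 1 * (P.co.k c⁻¹)⁻¹) * t
        = (t * P.co.k c⁻¹) * P.co.z 1 * ((P.co.k c⁻¹)⁻¹ * t) := by group
      _ = _ := by rw [e3, e4]; group
  have hk : P.co.k c * t * (P.co.k c)⁻¹ = P.co.k b * t := by
    rw [mul_assoc, ← map_inv, ← P.co.k_t P.setup, ← mul_assoc, ← map_mul, hc]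
  rw [hz, hm]
  constructor
  · exact ((by group : _ = P.co.k c * (P.co.z 1 * (t * P.co.z 1 * t) * P.co.z 1) * (P.co.k c)⁻¹).trans
      (congrArg (fun y => P.co.k c * y * (P.co.k c)⁻¹) e1)).trans hk
  · exact ((by group : _ = P.co.k c * ((t * P.co.z 1 * t) * P.co.z 1 * (t * P.co.z 1 * t)) *
      (P.co.k c)⁻¹).trans (congrArg (fun y => P.co.k c * y * (P.co.k c)⁻¹) e2)).trans hk

/-- The Steinberg relations. -/
def data : SL2Data F G where
  xp := P.co.z
  xm x := t * P.co.z x * t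
  xp_add := P.co.z_add
  xm_add x y := by
    rw [P.co.z_add]
    simp only [mul_assoc]
    rw [← mul_assoc t t, P.setup.mul_self, one_mul]
  braid x hx := by
    have := P.weyl (Units.mk0 x hx)
    simp only [Units.val_mk0] at this
    exact this.1.trans this.2.symm
  conj_p x hx u := by
    have e := (P.weyl (Units.mk0 x hx)).1
    simp only [Units.val_mk0] at e
    obtain ⟨b, hb⟩ : ∃ b, b = Units.mk0 x hx := ⟨_, rfl⟩
    rw [e, ← hb]
    calc P.co.k b * t * P.co.z u * (P.co.k b * t)⁻¹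
        = (P.co.k b * t) * P.co.z u * (t * (P.co.k b)⁻¹) := by rw [mul_inv_rev, t_inv P.setup]
      _ = (t * P.co.k b⁻¹) * P.co.z u * ((P.co.k b⁻¹)⁻¹ * t) := by
          rw [P.co.k_t P.setup, ← map_inv, ← map_inv, inv_inv, P.co.k_t P.setup b]
      _ = t * (P.co.k b⁻¹ * P.co.z u * (P.co.k b⁻¹)⁻¹) * t := by group
      _ = t * P.co.z (u / (x * x)) * t := by
          rw [P.co.k_conj, Units.val_inv_eq_inv_val, hb, Units.val_mk0, div_eq_inv_mul, mul_inv]
  conj_m x hx u := by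
    have e := (P.weyl (Units.mk0 x hx)).1
    simp only [Units.val_mk0] at e
    rw [e, mul_inv_rev, t_inv P.setup]
    calc P.co.k (Units.mk0 x hx) * t * (t * P.co.z u * t) * (t * (P.co.k (Units.mk0 x hx))⁻¹)
        = P.co.k (Units.mk0 x hx) * (t * t) * P.co.z u * (t * t) * (P.co.k (Units.mk0 x hx))⁻¹ := by group
      _ = P.co.z (x * x * u) := by
          rw [P.setup.mul_self, mul_one, mul_one, P.co.k_conj, Units.val_mk0]

/-- The homomorphism `SL₂(F) → G`. -/
noncomputable def hom : SL(2, F) →* G := P.data.hom split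

theorem data_n (b : Fˣ) : P.data.n (b : F) = P.co.k b * t := (P.weyl b).1

theorem data_n_one : P.data.n 1 = t := by
  have := P.data_n 1
  rwa [map_one, one_mul, Units.val_one] at this

theorem data_h (b : Fˣ) : P.data.h (b : F) = P.co.k b := by
  rw [SL2Data.h, P.data_n, CharTwo.neg_eq, P.data_n_one, mul_assoc, P.setup.mul_self, mul_one]

theorem hom_upSL (x : F) : P.hom (upSL x) = P.co.z x := P.data.hom_upSL split x

theorem hom_wSL : P.hom (SL2Data.wSL F) = t := by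
  have e := P.data.fn_w_mul split 1
  rw [mul_one, SL2Data.fn_one, mul_one, P.data_n_one] at e
  exact e

theorem hom_dSL (b : Fˣ) : P.hom (dSL b) = P.co.k b := by
  show P.data.fn (dSL b) = _
  rw [P.data.fn_of_zero (show (dSL b).1 1 0 = 0 from rfl)]
  show P.data.xp ((dSL b).1 0 1 * (dSL b).1 0 0) * P.data.h ((dSL b).1 0 0) = _
  rw [show (dSL b).1 0 1 = 0 from rfl, show (dSL b).1 0 0 = (b : F) from rfl, zero_mul, P.data_h]
  show P.co.z 0 * _ = _
  rw [P.co.z_zero, one_mul]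

theorem hom_loSL (x : F) : P.hom (loSL x) = t * P.co.z x * t := by
  show P.data.hom split (loSL x) = _
  rw [P.data.hom_loSL split x, CharTwo.neg_eq]
  rfl

/-- Values of `hom`. -/
theorem hom_eq (g : SL(2, F)) :
    (g.1 1 0 = 0 ∧ ∃ b : Fˣ, (b : F) = g.1 0 0 ∧ P.hom g = P.co.z (g.1 0 1 * g.1 0 0) * P.co.k b) ∨
      (g.1 1 0 ≠ 0 ∧ ∃ b : Fˣ, (b : F) = (g.1 1 0)⁻¹ ∧
        P.hom g = P.co.z (g.1 0 0 / g.1 1 0) * P.co.k b * t * P.co.z (g.1 1 1 / g.1 1 0)) := by
  by_cases hc : g.1 1 0 = 0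
  · have h0 : g.1 0 0 ≠ 0 := by
      intro e
      have := g.2
      rw [Matrix.det_fin_two, hc, e] at this
      simp at this
    refine Or.inl ⟨hc, Units.mk0 _ h0, rfl, ?_⟩
    rw [← P.data_h, Units.val_mk0]
    exact P.data.fn_of_zero hc
  · refine Or.inr ⟨hc, Units.mk0 _ (inv_ne_zero hc), rfl, ?_⟩
    rw [← P.data_h, Units.val_mk0]
    show P.data.fn g = _
    rw [P.data.fn_of_ne hc, P.data_n_one, CharTwo.neg_eq]
    rfl

theorem hom_smul_a {g : SL(2, F)} (hc : g.1 1 0 = 0) : P.hom g • a = a := by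
  rcases P.hom_eq g with ⟨-, b, -, e⟩ | ⟨h', -⟩
  · rw [e, mul_smul, (mem_dd.1 (P.co.k_mem_dd b)).1, P.co.z_smul_a]
  · exact absurd hc h'

theorem hom_smul_a' {g : SL(2, F)} (hc : g.1 1 0 ≠ 0) :
    P.hom g • a = P.co.z (g.1 0 0 / g.1 1 0) • (t • a) := by
  rcases P.hom_eq g with ⟨h', -⟩ | ⟨-, b, -, e⟩
  · exact absurd h' hc
  · rw [e, mul_smul, mul_smul, mul_smul, P.co.z_smul_a, (mem_dd.1 (P.co.k_mem_dd b)).2]

theorem hom_injective : Function.Injective P.hom := by
  refine (injective_iff_map_eq_one _).2 fun g hg => ?_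
  have hne : g.1 1 0 = 0 := by
    by_contra hc
    have e := P.hom_smul_a' hc
    rw [hg, one_smul] at e
    exact smul_ne_self P.setup (P.co.z_mem_Q P.setup _) (t_smul_ne P.setup) e.symm
  rcases P.hom_eq g with ⟨-, b, hb, e⟩ | ⟨h', -⟩
  swap
  · exact absurd hne h'
  rw [hg] at e
  obtain ⟨e1, e2⟩ := decomp_unique P.setup (P.co.z_mem_Q P.setup (g.1 0 1 * g.1 0 0)) (one_mem Q)
    (P.co.k_mem_dd b) (one_mem _) (by rw [one_mul]; exact e.symm)
  have hb1 : b = 1 := P.co.k_inj (by rw [e2, map_one])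
  have h00 : g.1 0 0 = 1 := by rw [← hb, hb1, Units.val_one]
  have h01 : g.1 0 1 = 0 := by
    have := P.co.z_eq_one.1 e1
    rwa [h00, mul_one] at this
  have h11 : g.1 1 1 = 1 := by
    have := g.2
    rw [Matrix.det_fin_two, hne, h00, mul_zero, sub_zero, one_mul] at this
    exact this
  apply Subtype.ext
  ext i j
  fin_cases i <;> fin_cases j <;> simp [h00, h01, h11, hne]

end Frame

end Cfsg.Agent.SuzukiRankOne
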