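import Cfsg.Agent.Lib.SuzukiRankOne.Interface
import Cfsg.Agent.Lib.Unitary.SylowThree
import Cfsg.Agent.Lib.Unitary.Simple

/-!
# `PSU₃(q)`, `q = 2ⁿ ≥ 4`, on isotropic points as a rank one set-up (owner: helper44)

Piece (IV) of the plan in `PLAN.md`: the theorem `unitaryModel`.
The base point is the line of `r = (1, 1, 0)`; `sylThree` fixes `r` and is regular on the other
isotropic lines; `t` is the transvection exchanging `r` and `s = (l, l + 1, 0)` (`l + l^q = 1`).
-/

set_option autoImplicit false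
set_option linter.unusedSectionVars false

namespace Cfsg.Agent.SuzukiRankOne

open MulAction Cfsg.Agent.Unitary
open scoped Matrix

variable {F : Type} [Field F] [Fintype F] {q : ℕ}

/-- The base vector. -/
def rVec (F : Type) [Field F] : Fin 3 → F := ![1, 1, 0]

/-- The second vector. -/
def sVec (l : F) : Fin 3 → F := ![l, l + 1, 0]

/-- The anisotropic vector orthogonal to both. -/
def eVec (F : Type) [Field F] : Fin 3 → F := ![0, 0, 1]

/-- The action of `PSU₃` on isotropic lines. -/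
noncomputable def psuHom (hF : Fintype.card F = q ^ 2) :
    Cfsg.PSU 3 F q →* Equiv.Perm (IsoLine 3 F q) :=
  QuotientGroup.lift _ (MulAction.toPermHom (Cfsg.SU 3 F q) (IsoLine 3 F q)) fun g hg => by
    obtain ⟨z, hz⟩ := (mem_center_SU_iff hF (by norm_num) g).1 hg
    rw [MonoidHom.mem_ker]
    refine Equiv.ext fun p => ?_
    obtain ⟨v, hv, hv0, rfl⟩ := p.exists_mk
    change g • IsoLine.mk v hv hv0 = IsoLine.mk v hv hv0
    rw [IsoLine.smul_mk, IsoLine.mk_eq_iff]
    refine ⟨z, ?_⟩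
    rw [suAct, hz]
    ext i
    simp [Matrix.scalar_apply, Matrix.mulVec_diagonal]

section coords

variable (hF : Fintype.card F = q ^ 2) (h2 : (2 : F) = 0) {l : F} (hl : l + l ^ q = 1)

include hF

theorem herm_three (x y : Fin 3 → F) :
    Cfsg.hermForm 3 F q x y = x 0 * y 0 ^ q + x 1 * y 1 ^ q + x 2 * y 2 ^ q := by
  simp [Cfsg.hermForm, Fin.sum_univ_three]

theorem herm_rVec (x : Fin 3 → F) : Cfsg.hermForm 3 F q x (rVec F) = x 0 + x 1 := by
  simp [herm_three hF, rVec, zero_pow_q hF]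

theorem rVec_ne : rVec F ≠ 0 := fun h => by
  have := congrFun h 0
  simp [rVec] at this

include h2

theorem rVec_iso : Cfsg.hermForm 3 F q (rVec F) (rVec F) = 0 := by
  rw [herm_rVec hF]
  simp [rVec]
  linear_combination h2

include hl

theorem sVec_iso : Cfsg.hermForm 3 F q (sVec l) (sVec l) = 0 := by
  simp [herm_three hF, sVec, add_pow_q hF, zero_pow_q hF]
  linear_combination hl + (l * l ^ q + 1) * h2

theorem herm_sr : Cfsg.hermForm 3 F q (sVec l) (rVec F) = 1 := by
  simp [herm_rVec hF, sVec]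
  linear_combination l * h2

theorem sVec_ne : sVec l ≠ 0 := fun h => by
  have h0 := congrFun h 0
  have h1 := congrFun h 1
  simp [sVec] at h0 h1
  rw [h0, zero_add] at h1
  exact one_ne_zero h1

/-- The sum of the two base vectors. -/
theorem sum_iso : Cfsg.hermForm 3 F q (rVec F + sVec l) (rVec F + sVec l) = 0 := by
  have H := hermForm_isHerm hF 3
  rw [H.add_left, H.add_right hF, H.add_right hF, rVec_iso hF h2, sVec_iso hF h2 hl,
    H.conj_symm (sVec l) (rVec F), herm_sr hF h2 hl, one_pow]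
  linear_combination h2

theorem decompose (x : Fin 3 → F) :
    x = (x 0 + (x 0 + x 1) * l) • rVec F + (x 0 + x 1) • sVec l + x 2 • eVec F := by
  ext i
  fin_cases i <;> simp [rVec, sVec, eVec]
  · linear_combination -((x 0 + x 1) * l) * h2
  · linear_combination -(x 0 + (x 0 + x 1) * l) * h2

end coords

section model

variable (hF : Fintype.card F = q ^ 2) (h2 : (2 : F) = 0) {l : F} (hl : l + l ^ q = 1)

/-- The base point. -/
def aPt : IsoLine 3 F q := IsoLine.mk (rVec F) (rVec_ne hF) (rVec_iso hF h2)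

/-- The second point. -/
def bPt : IsoLine 3 F q := IsoLine.mk (sVec l) (sVec_ne hF h2 hl) (sVec_iso hF h2 hl)

include hF h2 in
theorem one_skew : (1 : F) + 1 ^ q = 0 := by rw [one_pow]; linear_combination h2

/-- The involution exchanging the two points. -/
def tElt : Cfsg.SU 3 F q :=
  suTransvection hF (rVec F + sVec l) (sum_iso hF h2 hl) 1 (one_skew hF h2)

include hl in
theorem tElt_r : suAct (tElt hF h2 hl) (rVec F) = sVec l := by
  rw [tElt, suAct_suTransvection, (hermForm_isHerm hF 3).add_right hF, rVec_iso hF h2,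
    (hermForm_isHerm hF 3).conj_symm (sVec l) (rVec F), herm_sr hF h2 hl]
  ext i
  simp
  linear_combination rVec F i * h2

theorem tElt_sq : tElt hF h2 hl * tElt hF h2 hl = 1 := by
  refine Subtype.ext (Subtype.ext ?_)
  rw [Subgroup.coe_mul, Matrix.SpecialLinearGroup.coe_mul]
  show Cfsg.unitaryTransvection 3 q _ 1 * Cfsg.unitaryTransvection 3 q _ 1 = _
  rw [transvection_mul _ (sum_iso hF h2 hl), show (1 : F) + 1 = 0 by linear_combination h2,
    transvection_zero]
  simp

/-- A point other than the base point, normalised. -/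
theorem exists_rep (p : IsoLine 3 F q) (hp : p ≠ aPt hF h2) :
    ∃ (w : Fin 3 → F) (hw : w ≠ 0) (hw0 : Cfsg.hermForm 3 F q w w = 0),
      w 0 + w 1 = 1 ∧ p = IsoLine.mk w hw hw0 := by
  obtain ⟨v, hv, hv0, rfl⟩ := p.exists_mk
  by_cases hβ : v 0 + v 1 = 0
  · refine absurd ?_ hp
    refine IsoLine.mk_eq_iff.2 ⟨v 0, ?_⟩
    have h1 : v 1 = v 0 := by linear_combination hβ - v 0 * h2
    have h3 : v 2 = 0 := by
      rw [herm_three hF, h1] at hv0
      have : v 2 ^ (q + 1) = 0 := by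
        rw [pow_succ]
        linear_combination hv0 - v 0 * v 0 ^ q * h2
      exact pow_eq_zero_iff (Nat.succ_ne_zero q) |>.1 this
    ext i
    fin_cases i <;> simp [rVec, h1, h3]
  · have hw : (v 0 + v 1)⁻¹ • v ≠ 0 := smul_ne_zero (inv_ne_zero hβ) hv
    have hw0 : Cfsg.hermForm 3 F q ((v 0 + v 1)⁻¹ • v) ((v 0 + v 1)⁻¹ • v) = 0 := by
      rw [(hermForm_isHerm hF 3).smul_left, (hermForm_isHerm hF 3).smul_right, hv0, mul_zero,
        mul_zero]
    refine ⟨_, hw, hw0, by simp [← mul_add, inv_mul_cancel₀ hβ], ?_⟩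
    exact IsoLine.mk_eq_iff.2 ⟨v 0 + v 1, smul_inv_smul₀ hβ v⟩

theorem syl_r (u : sylThree hF h2) : suAct u.1 (rVec F) = rVec F := by
  rw [suAct, (coe_eq u).1]
  ext i
  fin_cases i <;> simp [mat3, rVec, dotProduct, Fin.sum_univ_three]
  · linear_combination coordB u * h2
  · linear_combination coordB u * h2
  · linear_combination coordA u * h2

theorem syl_s (u : sylThree hF h2) :
    suAct u.1 (sVec l) = ![l + coordB u, l + coordB u + 1, coordA u] := by
  rw [suAct, (coe_eq u).1]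
  ext i
  fin_cases i <;> simp [mat3, sVec, dotProduct, Fin.sum_univ_three]
  · linear_combination coordB u * l * h2
  · linear_combination coordB u * l * h2
  · linear_combination coordA u * l * h2

theorem syl_e (u : sylThree hF h2) :
    suAct u.1 (eVec F) = eVec F + coordA u ^ q • rVec F := by
  rw [suAct, (coe_eq u).1]
  ext i
  fin_cases i <;> simp [mat3, eVec, rVec, dotProduct, Fin.sum_univ_three]

/-- `sylThree` is transitive on the points other than the base point. -/
theorem exists_syl_move (p : IsoLine 3 F q) (hp : p ≠ aPt hF h2) :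
    ∃ u : sylThree hF h2, u.1 • bPt hF h2 hl = p := by
  obtain ⟨w, hw, hw0, h01, rfl⟩ := exists_rep hF h2 p hp
  have h1 : w 1 = w 0 + 1 := by linear_combination h01 - w 0 * h2
  have hab : (w 0 + l) + (w 0 + l) ^ q = w 2 ^ (q + 1) := by
    rw [herm_three hF, h1, add_pow_q hF, one_pow] at hw0
    rw [add_pow_q hF, pow_succ]
    linear_combination hw0 + hl - (w 0 * w 0 ^ q + w 2 * w 2 ^ q) * h2
  obtain ⟨u, hA, hB⟩ := exists_mk (hF := hF) (h2 := h2) hab
  refine ⟨u, ?_⟩
  rw [bPt, IsoLine.smul_mk]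
  refine IsoLine.mk_eq_iff.2 ⟨1, ?_⟩
  rw [one_smul, syl_s hF h2, hA, hB]
  ext i
  fin_cases i <;> simp [h1]
  · linear_combination -l * h2
  · linear_combination -l * h2

/-- `sylThree` meets the stabiliser of the second point trivially. -/
theorem syl_fix (u : sylThree hF h2) (hu : u.1 • bPt hF h2 hl = bPt hF h2 hl) : u = 1 := by
  rw [bPt, IsoLine.smul_mk, IsoLine.mk_eq_iff] at hu
  obtain ⟨c, hc⟩ := hu
  rw [syl_s hF h2] at hc
  have h0 := congrFun hc 0
  have h1 := congrFun hc 1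
  have h3 := congrFun hc 2
  simp [sVec] at h0 h1 h3
  have hc1 : c = 1 := by linear_combination h1 - h0
  rw [hc1, one_mul] at h0
  refine ext' ?_ ?_
  · rw [coord_one.1]; exact h3.symm
  · rw [coord_one.2]; linear_combination -h0

/-- `sylThree` consists of the elements fixing `r` and moving `e` within `e + F r`. -/
theorem mem_syl_of_fix (hl : l + l ^ q = 1) {g : Cfsg.SU 3 F q}
    (hr : suAct g (rVec F) = rVec F) {μ : F} (he : suAct g (eVec F) = eVec F + μ • rVec F) :
    g ∈ sylThree hF h2 := by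
  have H := hermForm_isHerm hF 3
  have hne : g • bPt hF h2 hl ≠ aPt hF h2 := by
    intro h
    rw [bPt, aPt, IsoLine.smul_mk, IsoLine.mk_eq_iff] at h
    obtain ⟨c, hc⟩ := h
    have h1 : Cfsg.hermForm 3 F q (suAct g (sVec l)) (suAct g (rVec F)) = 1 := by
      rw [suAct_herm, herm_sr hF h2 hl]
    rw [hr, ← hc, H.smul_left, rVec_iso hF h2, mul_zero] at h1
    exact zero_ne_one h1
  obtain ⟨u, hu⟩ := exists_syl_move hF h2 hl _ hne
  set k := u.1⁻¹ * g with hk
  have hkr : suAct k (rVec F) = rVec F := by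
    rw [hk, suAct_mul, hr]
    conv_lhs => rw [← syl_r hF h2 u]
    exact suAct_inv_suAct _ _
  have hks : suAct k (sVec l) = sVec l := by
    have h : k • bPt hF h2 hl = bPt hF h2 hl := by rw [hk, mul_smul, ← hu, inv_smul_smul]
    rw [bPt, IsoLine.smul_mk, IsoLine.mk_eq_iff] at h
    obtain ⟨c, hc⟩ := h
    have h1 : Cfsg.hermForm 3 F q (suAct k (sVec l)) (suAct k (rVec F)) = 1 := by
      rw [suAct_herm, herm_sr hF h2 hl]
    rw [hkr, ← hc, H.smul_left, herm_sr hF h2 hl, mul_one] at h1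
    rw [← hc, h1, one_smul]
  obtain ⟨ν, hke⟩ : ∃ ν : F, suAct k (eVec F) = eVec F + ν • rVec F := by
    refine ⟨μ - coordA u ^ q, ?_⟩
    apply Function.LeftInverse.injective (fun x => suAct_inv_suAct u.1 x)
    rw [hk, suAct_mul, suAct_suAct_inv, he, suAct_add, suAct_smul, syl_e hF h2 u, syl_r hF h2 u,
      sub_smul]
    abel
  have hν : ν = 0 := by
    have h1 : Cfsg.hermForm 3 F q (suAct k (eVec F)) (suAct k (sVec l)) =
        Cfsg.hermForm 3 F q (eVec F) (sVec l) := suAct_herm _ _ _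
    rw [hke, hks, H.add_left, H.smul_left, H.conj_symm (sVec l) (rVec F), herm_sr hF h2 hl, one_pow,
      mul_one] at h1
    exact add_left_cancel (h1.trans (add_zero _).symm)
  rw [hν, zero_smul, add_zero] at hke
  have hk1 : k = 1 := by
    refine suAct_ext fun x => ?_
    rw [suAct_one, decompose hF h2 hl x]
    simp only [suAct_add, suAct_smul, hkr, hks, hke]
  rw [inv_mul_eq_one] at hk1
  exact hk1 ▸ u.2

/-- The point stabiliser normalises `sylThree`. -/
theorem syl_conj (hl : l + l ^ q = 1) {g : Cfsg.SU 3 F q} (hg : g • aPt hF h2 = aPt hF h2)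
    {u : Cfsg.SU 3 F q} (hu : u ∈ sylThree hF h2) : g * u * g⁻¹ ∈ sylThree hF h2 := by
  have H := hermForm_isHerm hF 3
  rw [aPt, IsoLine.smul_mk, IsoLine.mk_eq_iff] at hg
  obtain ⟨c, hc⟩ := hg
  have hc0 : c ≠ 0 := fun h => suAct_ne_zero g (rVec_ne hF) (by rw [← hc, h, zero_smul])
  have hgi : suAct g⁻¹ (rVec F) = c⁻¹ • rVec F := by
    apply Function.LeftInverse.injective (fun x => suAct_inv_suAct g x)
    rw [suAct_suAct_inv, suAct_smul, ← hc, inv_smul_smul₀ hc0]
  set y := suAct g⁻¹ (eVec F) with hy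
  have hy0 : y 0 + y 1 = 0 := by
    have h1 : Cfsg.hermForm 3 F q (suAct g y) (suAct g (rVec F)) =
        Cfsg.hermForm 3 F q y (rVec F) := suAct_herm _ _ _
    have hgy : suAct g y = eVec F := suAct_suAct_inv g _
    rw [hgy, ← hc, H.smul_right, herm_rVec hF, herm_rVec hF] at h1
    rw [← h1]
    simp [eVec]
  have hyd := decompose hF h2 hl y
  rw [hy0] at hyd
  simp only [zero_mul, add_zero, zero_smul] at hyd
  have hur := syl_r hF h2 ⟨u, hu⟩
  have hue := syl_e hF h2 ⟨u, hu⟩
  simp only at hur hue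
  refine mem_syl_of_fix hF h2 hl (μ := y 2 * coordA (⟨u, hu⟩ : sylThree hF h2) ^ q * c) ?_ ?_
  · rw [suAct_mul, suAct_mul, hgi, suAct_smul, hur, suAct_smul, ← hc, inv_smul_smul₀ hc0]
  · rw [suAct_mul, suAct_mul, ← hy]
    have h1 : suAct u y = y + (y 2 * coordA (⟨u, hu⟩ : sylThree hF h2) ^ q) • rVec F := by
      conv_lhs => rw [hyd]
      conv_rhs => rw [hyd]
      simp only [suAct_add, suAct_smul, hur, hue, smul_add, smul_smul]
      simp [rVec, eVec]
    rw [h1, suAct_add, suAct_smul, hy, suAct_suAct_inv, ← hc, smul_smul]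

end model

/-- `PSU₃(2ⁿ)` on its isotropic points. -/
theorem unitaryModel : UnitaryModel := by
  classical
  intro F _ _ n hn hF
  set q := 2 ^ n with hq
  have h2 : (2 : F) = 0 := by
    have h0 : ((2 : ℕ) : F) ^ (n * 2) = 0 := by
      rw [← Nat.cast_pow, pow_mul, ← hq, ← hF]; exact FiniteField.cast_card_eq_zero F
    exact_mod_cast eq_zero_of_pow_eq_zero h0
  obtain ⟨l, hl⟩ := exists_trace_eq hF (c := (1 : F)) (one_pow q)
  letI instA : MulAction (Cfsg.PSU 3 F q) (IsoLine 3 F q) :=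
    MulAction.compHom _ (psuHom (q := q) hF)
  have hsmul : ∀ (g : Cfsg.SU 3 F q) (p : IsoLine 3 F q),
      (g : Cfsg.PSU 3 F q) • p = g • p := fun g p => rfl
  have hfaith : FaithfulSMul (Cfsg.PSU 3 F q) (IsoLine 3 F q) := by
    refine ⟨fun {x y} h => ?_⟩
    induction x using QuotientGroup.induction_on with | _ g =>
    induction y using QuotientGroup.induction_on with | _ g' =>
    rw [QuotientGroup.eq, mem_center_SU_iff hF (by norm_num)]
    refine scalar_of_fixes_iso hF (by norm_num) _ fun v hv hv0 => ?_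
    have h1 : (g⁻¹ * g') • IsoLine.mk v hv hv0 = IsoLine.mk v hv hv0 := by
      rw [mul_smul, ← hsmul g' _, ← h, hsmul, inv_smul_smul]
    rw [IsoLine.smul_mk, IsoLine.mk_eq_iff] at h1
    obtain ⟨c, hc⟩ := h1
    exact ⟨c, hc.symm⟩
  let π : sylThree hF h2 →* Cfsg.PSU 3 F q :=
    (QuotientGroup.mk' (Subgroup.center (Cfsg.SU 3 F q))).comp (sylThree hF h2).subtype
  have hπ : ∀ (u : sylThree hF h2) (p : IsoLine 3 F q), π u • p = u.1 • p := fun u p => rfl
  set a := aPt hF h2 with ha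
  set b := bPt hF h2 hl with hb
  set t : Cfsg.PSU 3 F q := ↑(tElt hF h2 hl) with ht
  have hta : t • a = b := by
    rw [ht, hsmul, ha, aPt, IsoLine.smul_mk, hb, bPt]
    exact IsoLine.mk_eq_iff.2 ⟨1, by rw [one_smul, tElt_r]⟩
  have hab : b ≠ a := by
    intro h
    rw [hb, ha, bPt, aPt, IsoLine.mk_eq_iff] at h
    obtain ⟨c, hc⟩ := h
    have h0 := congrFun hc 0
    have h1 := congrFun hc 1
    simp [rVec, sVec] at h0 h1
    exact one_ne_zero (show (1 : F) = 0 by linear_combination h0 - h1)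
  set Q := π.range with hQ
  have hfixa : ∀ x ∈ Q, x • a = a := by
    rintro _ ⟨u, rfl⟩
    rw [hπ, ha, aPt, IsoLine.smul_mk]
    exact IsoLine.mk_eq_iff.2 ⟨1, by rw [one_smul, syl_r]⟩
  have hQtriv : ∀ x ∈ Q, x • b = b → x = 1 := by
    rintro _ ⟨u, rfl⟩ hx
    rw [syl_fix hF h2 hl u hx, map_one]
  have hπinj : Function.Injective π := by
    rw [injective_iff_map_eq_one]
    intro u hu
    refine syl_fix hF h2 hl u ?_
    rw [← hπ, hu, one_smul]
  have hmove : ∀ p : IsoLine 3 F q, p ≠ a → ∃ x ∈ Q, x • b = p := fun p hp => by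
    obtain ⟨u, hu⟩ := exists_syl_move hF h2 hl p hp
    exact ⟨π u, ⟨u, rfl⟩, hu⟩
  haveI htr : MulAction.IsPretransitive (Cfsg.PSU 3 F q) (IsoLine 3 F q) := by
    refine ⟨fun p p' => ?_⟩
    obtain ⟨g, hg⟩ := (isoLine_pretransitive (n := 3) hF le_rfl).exists_smul_eq p p'
    exact ⟨g, hg⟩
  have hpair : ∀ p p' : IsoLine 3 F q, p ≠ p' → ∃ g : Cfsg.PSU 3 F q, g • a = p ∧ g • b = p' := by
    intro p p' hne
    obtain ⟨g, hg⟩ := MulAction.exists_smul_eq (Cfsg.PSU 3 F q) a p
    obtain ⟨x, hx, hxb⟩ := hmove (g⁻¹ • p') (fun h => hne (by rw [← hg, ← h, smul_inv_smul]))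
    exact ⟨g * x, by rw [mul_smul, hfixa x hx, hg], by rw [mul_smul, hxb, smul_inv_smul]⟩
  have h2t : MulAction.IsMultiplyPretransitive (Cfsg.PSU 3 F q) (IsoLine 3 F q) 2 := by
    rw [MulAction.is_two_pretransitive_iff]
    intro p p' r r' hp hr
    obtain ⟨g, hg, hg'⟩ := hpair p p' hp
    obtain ⟨g₂, hg₂, hg₂'⟩ := hpair r r' hr
    exact ⟨g₂ * g⁻¹, by rw [mul_smul, ← hg, inv_smul_smul, hg₂],
      by rw [mul_smul, ← hg', inv_smul_smul, hg₂']⟩
  set K := MulAction.stabilizer (Cfsg.PSU 3 F q) a with hK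
  set D := K ⊓ MulAction.stabilizer (Cfsg.PSU 3 F q) (t • a) with hD
  have hQK : Q ≤ K := fun x hx => hfixa x hx
  have hQD : Q ⊓ D = ⊥ := by
    rw [eq_bot_iff]
    rintro x ⟨hx, -, hx2⟩
    refine Subgroup.mem_bot.2 (hQtriv x hx ?_)
    rw [← hta]; exact hx2
  have hdec : ∀ g ∈ K, ∃ x ∈ Q, ∃ d ∈ D, x * d = g := by
    intro g hg
    obtain ⟨x, hx, hxb⟩ := hmove (g • b) (fun h => hab (smul_left_cancel g (h.trans hg.symm)))
    refine ⟨x, hx, x⁻¹ * g, ⟨K.mul_mem (K.inv_mem (hQK hx)) hg, ?_⟩, mul_inv_cancel_left x g⟩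
    show (x⁻¹ * g) • (t • a) = t • a
    rw [hta, mul_smul, ← hxb, inv_smul_smul]
  have hcardQ : Nat.card Q = q ^ 3 := by
    rw [hQ, ← Nat.card_congr (MonoidHom.ofInjective hπinj).toEquiv, card_sylThree]
  have hcardK : Nat.card K = q ^ 3 * Nat.card D := by
    rw [← hcardQ, ← Nat.card_prod]
    refine (Nat.card_congr (Equiv.ofBijective
      (fun z : Q × D => (⟨z.1.1 * z.2.1, K.mul_mem (hQK z.1.2) z.2.2.1⟩ : K)) ⟨?_, ?_⟩)).symm
    · rintro ⟨x, d⟩ ⟨x', d'⟩ h
      have h' : x.1 * d.1 = x'.1 * d'.1 := congrArg Subtype.val h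
      have hb1 : x'.1⁻¹ * x.1 ∈ Q ⊓ D := by
        refine ⟨Q.mul_mem (Q.inv_mem x'.2) x.2, ?_⟩
        have e : x'.1⁻¹ * x.1 = d'.1 * d.1⁻¹ := by
          rw [eq_mul_inv_iff_mul_eq, mul_assoc, h', inv_mul_cancel_left]
        rw [e]
        exact D.mul_mem d'.2 (D.inv_mem d.2)
      rw [hQD, Subgroup.mem_bot, inv_mul_eq_one] at hb1
      have hx : x = x' := Subtype.ext hb1.symm
      subst hx
      exact Prod.ext rfl (Subtype.ext (mul_left_cancel h'))
    · rintro ⟨g, hg⟩
      obtain ⟨x, hx, d, hd, rfl⟩ := hdec g hg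
      exact ⟨(⟨x, hx⟩, ⟨d, hd⟩), rfl⟩
  have hcardΩ : K.index = q ^ 3 + 1 := by
    haveI : Finite (IsoLine 3 F q) := Subtype.finite
    rw [MulAction.index_stabilizer_of_transitive, ← Nat.card_congr (Equiv.optionSubtypeNe a),
      Finite.card_option]
    congr 1
    rw [← hcardQ]
    refine (Nat.card_congr (Equiv.ofBijective (fun x : Q =>
      (⟨x.1 • b, fun h => hab (smul_left_cancel x.1 (h.trans (hfixa x.1 x.2).symm))⟩ :
        {p : IsoLine 3 F q // p ≠ a})) ⟨?_, ?_⟩)).symm
    · intro x x' h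
      have h' : x.1 • b = x'.1 • b := congrArg Subtype.val h
      have := hQtriv (x'.1⁻¹ * x.1) (Q.mul_mem (Q.inv_mem x'.2) x.2)
        (by rw [mul_smul, h', inv_smul_smul])
      exact Subtype.ext (inv_mul_eq_one.1 this).symm
    · rintro ⟨p, hp⟩
      obtain ⟨x, hx, hxb⟩ := hmove p hp
      exact ⟨⟨x, hx⟩, Subtype.ext hxb⟩
  have hq4 : 4 ≤ q := by
    calc 4 = 2 ^ 2 := rfl
      _ ≤ 2 ^ n := Nat.pow_le_pow_right (by norm_num) hn
  have hqe : Even q := by rw [hq, Nat.even_pow]; exact ⟨even_two, by omega⟩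
  have hD_odd : Odd (Nat.card D) := by
    have hP := card_PSU (n := 3) hF (by norm_num)
    rw [← K.card_mul_index, hcardK, hcardΩ] at hP
    simp only [Finset.prod_range_succ, Finset.prod_range_zero] at hP
    simp only [Nat.reduceAdd, Nat.reduceSub, Nat.reduceMul, Nat.reduceDiv, pow_one, one_mul,
      even_two, Even.zero, if_true, Nat.not_even_one, if_false] at hP
    have hpos : 0 < q ^ 3 * (q + 1) * (q ^ 3 + 1) := by positivity
    have h' : Nat.gcd 3 (q + 1) * Nat.card D = q ^ 2 - 1 := by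
      apply Nat.eq_of_mul_eq_mul_left hpos
      calc q ^ 3 * (q + 1) * (q ^ 3 + 1) * (Nat.gcd 3 (q + 1) * Nat.card D)
          = Nat.gcd 3 (q + 1) * ((q + 1) * (q ^ 3 * Nat.card D * (q ^ 3 + 1))) := by ring
        _ = _ := by rw [hP]; ring
    have hodd : Odd (q ^ 2 - 1) :=
      Nat.Even.sub_odd (Nat.one_le_pow _ _ (by omega)) (by rw [Nat.even_pow]; exact ⟨hqe, two_ne_zero⟩)
        odd_one
    rw [← h'] at hodd
    exact (Nat.odd_mul.1 hodd).2
  have hQnorm : ∀ h ∈ K, ∀ x ∈ Q, h * x * h⁻¹ ∈ Q := by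
    intro h hh x hx
    obtain ⟨u, rfl⟩ := hx
    induction h using QuotientGroup.induction_on with | _ g =>
    exact ⟨⟨g * u.1 * g⁻¹, syl_conj hF h2 hl hh u.2⟩, rfl⟩
  have hQp : IsPGroup 2 Q := IsPGroup.of_card (n := n * 3) (by rw [hcardQ, hq, pow_mul])
  have hinv : ∀ x ∈ K, x * x = 1 → x ∈ Q := by
    intro g hg hg2
    obtain ⟨x, hx, d, hd, rfl⟩ := hdec g hg
    have hd2 : d * d ∈ Q := by
      have e : d * d = (d * x * d⁻¹)⁻¹ * (x⁻¹ * (x * d * (x * d))) := by group
      rw [e, hg2, mul_one]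
      exact Q.mul_mem (Q.inv_mem (hQnorm d hd.1 x hx)) (Q.inv_mem hx)
    have hd1 : d * d = 1 := by
      have hm : d * d ∈ Q ⊓ D := ⟨hd2, D.mul_mem hd hd⟩
      rw [hQD] at hm
      exact Subgroup.mem_bot.1 hm
    have : d = 1 := by
      by_contra hne
      have ho := Subgroup.orderOf_dvd_natCard D hd
      rw [orderOf_eq_prime (by rw [pow_two, hd1]) hne] at ho
      exact Nat.not_even_iff_odd.2 hD_odd (even_iff_two_dvd.2 ho)
    rw [this, mul_one]
    exact hx
  have hcent : ∀ u : sylThree hF h2, π u * π u = 1 ↔ u ∈ Subgroup.center (sylThree hF h2) := by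
    intro u
    rw [mem_center_iff, ← Unitary.sq_eq_one_iff, ← map_mul, ← map_one π, hπinj.eq_iff]
  have hparam : param (Cfsg.PSU 3 F q) a = q := by
    have e : {u : Subgroup.center (sylThree hF h2) // u ≠ 1} ≃
        ↥(Cfsg.involutionsIn (MulAction.stabilizer (Cfsg.PSU 3 F q) a : Set (Cfsg.PSU 3 F q))) := by
      refine Equiv.ofBijective (fun u => ⟨π u.1.1, hQK ⟨_, rfl⟩, ?_, (hcent _).2 u.1.2⟩) ⟨?_, ?_⟩
      · intro h
        exact u.2 (Subtype.ext (hπinj (h.trans (map_one π).symm)))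
      · intro u u' h
        exact Subtype.ext (Subtype.ext (hπinj (congrArg Subtype.val h)))
      · rintro ⟨x, hxK, hx1, hx2⟩
        obtain ⟨u, rfl⟩ := hinv x hxK hx2
        exact ⟨⟨⟨u, (hcent u).1 hx2⟩, fun h => hx1 (by rw [show u = 1 from congrArg Subtype.val h, map_one])⟩, rfl⟩
    rw [param, ← Nat.card_congr e, ← Finite.card_option,
      Nat.card_congr (Equiv.optionSubtypeNe (1 : Subgroup.center (sylThree hF h2))), card_center]
  refine ⟨IsoLine 3 F q, instA, hfaith, a, t, Q, ?_, ?_, hQp, ?_, hparam, hcardQ⟩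
  · exact
      { two_transitive := h2t
        mul_self := by rw [ht, ← QuotientGroup.mk_mul, tElt_sq]; rfl
        ne_one := fun h => hab (by rw [← hta, h, one_smul])
        not_mem := fun h => hab (by rw [← hta]; exact h)
        le := hQK
        conj_mem := hQnorm
        inf_eq_bot := by
          rw [eq_bot_iff, ← hQD]
          exact fun x hx => ⟨hx.1, hQK hx.1, hx.2⟩
        sup_eq := le_antisymm (sup_le hQK inf_le_left) fun g hg => by
          obtain ⟨x, hx, d, hd, rfl⟩ := hdec g hg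
          exact Subgroup.mul_mem_sup hx hd
        even_card := by rw [hcardQ, Nat.even_pow]; exact ⟨hqe, three_ne_zero⟩
        odd_card := hD_odd }
  · have hc : 3 ≤ Nat.card (Subgroup.center (sylThree hF h2)) := by rw [card_center]; omega
    have h1 : 1 < Nat.card (Subgroup.center (sylThree hF h2)) := by omega
    haveI := Finite.one_lt_card_iff_nontrivial.1 h1
    obtain ⟨x, hx⟩ := exists_ne (1 : Subgroup.center (sylThree hF h2))
    obtain ⟨y, hy1, hyx⟩ : ∃ y : Subgroup.center (sylThree hF h2), y ≠ 1 ∧ y ≠ x := by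
      by_contra hno
      push Not at hno
      have hsub : (Set.univ : Set (Subgroup.center (sylThree hF h2))) ⊆ {1, x} := fun y _ => by
        by_cases hy : y = 1
        · exact Or.inl hy
        · exact Or.inr (hno y hy)
      have := (Set.ncard_le_ncard hsub).trans (Set.ncard_pair (Ne.symm hx)).le
      rw [Set.ncard_univ] at this
      omega
    refine ⟨π x.1, π y.1, ?_, ?_, ?_, (hcent _).2 x.2, (hcent _).2 y.2, ?_⟩
    · exact fun h => hx (Subtype.ext (hπinj (h.trans (map_one π).symm)))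
    · exact fun h => hy1 (Subtype.ext (hπinj (h.trans (map_one π).symm)))
    · exact fun h => hyx (Subtype.ext (hπinj h)).symm
    · rw [← map_mul, ← map_mul]
      exact congrArg π (Subgroup.mem_center_iff.1 y.2 x.1)
  · intro hcomm
    have htop : Subgroup.center (sylThree hF h2) = ⊤ := by
      rw [eq_top_iff]
      intro u _
      rw [Subgroup.mem_center_iff]
      intro u'
      apply hπinj
      rw [map_mul, map_mul]
      exact congrArg Subtype.val (hcomm.is_comm.comm (⟨π u', u', rfl⟩ : Q) ⟨π u, u, rfl⟩)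
    have h := card_center (hF := hF) (h2 := h2)
    rw [htop, Nat.card_congr Subgroup.topEquiv.toEquiv, card_sylThree] at h
    have : q * 1 < q * (q * q) := Nat.mul_lt_mul_of_pos_left (by nlinarith) (by omega)
    nlinarith

end Cfsg.Agent.SuzukiRankOne
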