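import Cfsg.Agent.Lib.SuzukiRankOne.Elementary
import Cfsg.Agent.Lib.SuzukiRankOne.Unitary.Split
import Cfsg.Agent.Lib.SuzukiRankOne.Unitary.Iso
import Cfsg.Agent.Lib.SuzukiRankOne.UnitaryModel
/-!
# Suzuki's rank one theorem, assembly

* `unitary_case` : `|Q| = q³` gives `PSU₃(q)`;
* `classify` : the three cases, from `KernelShape` and `SuzukiShape`.
-/

set_option autoImplicit false

namespace Cfsg.Agent.SuzukiRankOne

open MulAction Cfsg.Agent.RankOne.Setup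

universe u v

variable {G : Type u} {Ω : Type v} [Group G] [Finite G] [MulAction G Ω] [FaithfulSMul G Ω]
  {a : Ω} {t : G} {Q : Subgroup G}

/-- Coordinates over `GaloisField 2 n` for a given parameter. -/
theorem coords_of_param (h : Cfsg.IsRankOneSetup G Ω a t Q) (h2 : TwoInvolutions G) {n : ℕ}
    (hq : param G a = 2 ^ n) : Nonempty (Coords a t Q (GaloisField 2 n)) := by
  obtain ⟨m, -, hm, hC⟩ := exists_coords h h2
  obtain rfl : n = m := Nat.pow_right_injective le_rfl (hq.symm.trans hm)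
  exact hC

/-- The unitary case. -/
theorem unitary_case (h : Cfsg.IsRankOneSetup G Ω a t Q) (h2 : TwoInvolutions G) (hQ2 : IsPGroup 2 Q)
    (hna : ¬ IsMulCommutative Q) (hQ3 : Nat.card Q = param G a ^ 3) :
    ∃ L : Subgroup G, L.Normal ∧ Odd L.index ∧
      ∃ (F : Type) (_ : Field F) (_ : Fintype F) (n : ℕ), 2 ≤ n ∧ Fintype.card F = (2 ^ n) ^ 2 ∧
        Nonempty (L ≃* Cfsg.PSU 3 F (2 ^ n)) := by
  classical
  obtain ⟨n, hn, hq, ⟨C⟩⟩ := exists_coords h h2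
  haveI : Finite (GaloisField 2 (2 * n)) := inferInstance
  letI := Fintype.ofFinite (GaloisField 2 (2 * n))
  have hE : Fintype.card (GaloisField 2 (2 * n)) = (2 ^ n) ^ 2 := by
    rw [← Nat.card_eq_fintype_card, GaloisField.card 2 (2 * n) (by omega), ← pow_mul, mul_comm]
  obtain ⟨Ω', act', faith', a', t', Q', h', h2', hQ2', hna', hq', hQ3'⟩ :=
    unitaryModel (GaloisField 2 (2 * n)) n hn hE
  obtain ⟨C'⟩ := coords_of_param h' h2' hq'
  have hcard : Nat.card (GaloisField 2 n) = 2 ^ n := GaloisField.card 2 n (by omega)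
  obtain ⟨P, -⟩ := exists_frame_of_cube h h2 hQ2 hna hQ3 C
  obtain ⟨P', -⟩ := exists_frame_of_cube h' h2' hQ2' hna' (by rw [hQ3', hq']) C'
  obtain ⟨L, -⟩ := exists_lframe P hQ2 hna (by rw [hQ3, hq, hcard])
  obtain ⟨L', -⟩ := exists_lframe P' hQ2' hna' (by rw [hQ3', hcard])
  obtain ⟨L'', -, hqr⟩ := LFrame.exists_same_qr L L'
  obtain ⟨e⟩ := LFrame.iso_closure L L'' hqr
  obtain ⟨hN, hodd⟩ := P.closure_normal
  haveI hsimp : IsSimpleGroup (Cfsg.PSU 3 (GaloisField 2 (2 * n)) (2 ^ n)) :=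
    Unitary.isSimpleGroup_PSU hE (Or.inr ⟨rfl, by
      have : 2 ^ 2 ≤ 2 ^ n := Nat.pow_le_pow_right (by norm_num) hn
      omega⟩)
  obtain ⟨hN', -⟩ := P'.closure_normal
  have htop : Subgroup.closure ((Q' : Set _) ∪ {t'}) = ⊤ := by
    refine (hN'.eq_bot_or_eq_top).resolve_left fun hbot => h'.ne_one ?_
    have : t' ∈ Subgroup.closure ((Q' : Set _) ∪ {t'}) := Subgroup.subset_closure (Or.inr rfl)
    rwa [hbot, Subgroup.mem_bot] at this
  exact ⟨_, hN, hodd, GaloisField 2 (2 * n), inferInstance, inferInstance, n, hn, hE,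
    ⟨(e.trans (MulEquiv.subgroupCongr htop)).trans Subgroup.topEquiv⟩⟩

/-- The classification, from the two other pieces. -/
theorem classify (hK : KernelShape.{u, v}) (hS : SuzukiShape.{u, v})
    (h : Cfsg.IsRankOneSetup G Ω a t Q) (h2 : TwoInvolutions G) :
    ∃ L : Subgroup G, L.Normal ∧ Odd L.index ∧
      ((∃ (F : Type) (_ : Field F) (_ : Fintype F), (∃ n : ℕ, 2 ≤ n ∧ Fintype.card F = 2 ^ n) ∧
          Nonempty (L ≃* Matrix.ProjectiveSpecialLinearGroup (Fin 2) F)) ∨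
        Cfsg.Lie.IsoSuzuki L ∨
        (∃ (F : Type) (_ : Field F) (_ : Fintype F) (n : ℕ), 2 ≤ n ∧ Fintype.card F = (2 ^ n) ^ 2 ∧
          Nonempty (L ≃* Cfsg.PSU 3 F (2 ^ n)))) := by
  obtain ⟨hQ2, hel⟩ := hK G Ω a t Q h h2
  by_cases hc : IsMulCommutative Q
  · obtain ⟨L, h1, h2', h3⟩ := elementary_case h h2 (hel hc)
    exact ⟨L, h1, h2', Or.inl h3⟩
  obtain ⟨n, hn, hq, ⟨C⟩⟩ := exists_coords h h2
  have hcard : Nat.card (GaloisField 2 n) = param G a := by rw [hq, GaloisField.card 2 n (by omega)]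
  rcases C.card_cases h h2 hQ2 hc with e | e <;> rw [hcard] at e
  · obtain ⟨L, h1, h2', h3⟩ := hS G Ω a t Q h h2 hQ2 hc e
    exact ⟨L, h1, h2', Or.inr (Or.inl h3)⟩
  · obtain ⟨L, h1, h2', h3⟩ := unitary_case h h2 hQ2 hc e
    exact ⟨L, h1, h2', Or.inr (Or.inr h3)⟩

end Cfsg.Agent.SuzukiRankOne
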