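import Cfsg.Agent.Lib.SuzukiRankOne.Interface
import Cfsg.Agent.Lib.FTUse.RankOne
import Cfsg.Agent.S1131
/-!
# Coordinates in a rank one set-up

* `exists_coords` : the involutions of `G_a` with `1` are `z '' F` for a field `F` of order `q`,
  `K` is `k '' Fˣ`, with `k a * z x * (k a)⁻¹ = z (a² x)` and `t * z 1 * t = r⁻¹ * t * r`;
* `Coords.exists_semilinear` : every element of `D` acts as `z x ↦ z (c σ x)`, `k a ↦ k (σ a)`.
-/

set_option autoImplicit false

namespace Cfsg.Agent.SuzukiRankOne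

open MulAction Cfsg.Agent.RankOne.Setup

universe u v w

variable {G : Type u} {Ω : Type v} [Group G] [Finite G] [MulAction G Ω] {a : Ω} {t : G} {Q : Subgroup G}

local notation "DD" => (stabilizer G a ⊓ stabilizer G (t • a) : Subgroup G)
local notation "II" => Cfsg.involutionsIn (stabilizer G a : Set G)
local notation "KK" => Cfsg.invertedBy (stabilizer G a ⊓ stabilizer G (t • a)) t

/-- Field coordinates on `ee` and on `K`. -/
structure Coords (a : Ω) (t : G) (Q : Subgroup G) (F : Type w) [Field F] where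
  z : F → G
  z_add : ∀ x y, z (x + y) = z x * z y
  z_inj : Function.Injective z
  z_mem : ∀ x, z x ∈ stabilizer G a ∧ z x * z x = 1
  z_surj : ∀ g ∈ stabilizer G a, g * g = 1 → ∃ x, z x = g
  k : Fˣ →* G
  k_mem : ∀ b, k b ∈ Cfsg.invertedBy (stabilizer G a ⊓ stabilizer G (t • a)) t
  k_inj : Function.Injective k
  k_surj : ∀ g ∈ Cfsg.invertedBy (stabilizer G a ⊓ stabilizer G (t • a)) t, ∃ b, k b = g
  k_conj : ∀ (b : Fˣ) (x : F), k b * z x * (k b)⁻¹ = z ((b : F) * b * x)
  dist : ∃ r ∈ Q, t * z 1 * t = r⁻¹ * t * r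

/-- A commutative regular group of automorphisms of an elementary abelian 2-group makes it a field. -/
theorem exists_field {E : Type*} [AddCommGroup E] [Finite E] (h2 : ∀ x : E, x + x = 0) {e : E} (he : e ≠ 0)
    (m : E → E → E) (hl : ∀ x y y', m x (y + y') = m x y + m x y') (h0 : ∀ y, m 0 y = 0)
    (hcomm : ∀ x y, m x y = m y x) (hassoc : ∀ x y y', m (m x y) y' = m x (m y y'))
    (hone : ∀ x, m e x = x) (hdom : ∀ x y, x ≠ 0 → y ≠ 0 → m x y ≠ 0) :
    ∃ n : ℕ, n ≠ 0 ∧ ∃ ψ : E ≃+ GaloisField 2 n, ψ e = 1 ∧ ∀ x y, ψ (m x y) = ψ x * ψ y := by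
  classical
  letI R : CommRing E :=
    { (inferInstance : AddCommGroup E) with
      mul := m
      one := e
      left_distrib := hl
      right_distrib := fun x y z => by
        show m (x + y) z = m x z + m y z
        rw [hcomm, hl, hcomm z x, hcomm z y]
      zero_mul := h0
      mul_zero := fun x => by show m x 0 = 0; rw [hcomm, h0]
      mul_assoc := hassoc
      one_mul := hone
      mul_one := fun x => by show m x e = x; rw [hcomm, hone]
      mul_comm := hcomm }
  haveI : Nontrivial E := ⟨⟨e, 0, he⟩⟩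
  haveI : NoZeroDivisors E := ⟨fun {x y} hxy => by
    by_contra hcon
    rw [not_or] at hcon
    exact hdom x y hcon.1 hcon.2 hxy⟩
  haveI : IsDomain E := NoZeroDivisors.to_isDomain _
  letI : Field E := (Finite.isField_of_domain E).toField
  letI : Fintype E := Fintype.ofFinite E
  haveI : CharP E 2 := CharTwo.of_one_ne_zero_of_two_eq_zero one_ne_zero (by
    rw [← one_add_one_eq_two]; exact h2 1)
  obtain ⟨n, -, hn⟩ := FiniteField.card E 2
  letI := Fintype.ofFinite (GaloisField 2 n)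
  obtain ⟨ψ⟩ : Nonempty (E ≃+* GaloisField 2 n) := ⟨FiniteField.ringEquivOfCardEq (by
    rw [← Nat.card_eq_fintype_card (α := GaloisField 2 n), GaloisField.card 2 n n.pos.ne', hn])⟩
  exact ⟨n, n.pos.ne', ψ.toAddEquiv, map_one ψ, fun x y => map_mul ψ x y⟩

variable [FaithfulSMul G Ω] (h : Cfsg.IsRankOneSetup G Ω a t Q) (h2 : TwoInvolutions G)
include h h2

theorem kk_comm {x y : G} (hx : x ∈ KK) (hy : y ∈ KK) : x * y = y * x ∧ x * y ∈ KK ∧ x⁻¹ ∈ KK := by
  obtain ⟨C, hC, hcyc, -⟩ := S1131.result h h2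
  rw [← hC] at hx hy ⊢
  haveI := hcyc
  exact ⟨congrArg Subtype.val ((IsCyclic.isMulCommutative (α := C)).is_comm.comm ⟨x, hx⟩ ⟨y, hy⟩),
    C.mul_mem hx hy, C.inv_mem hx⟩

/-- Coordinates exist. -/
theorem exists_coords : ∃ (n : ℕ), 2 ≤ n ∧ param G a = 2 ^ n ∧ Nonempty (Coords a t Q (GaloisField 2 n)) := by
  classical
  obtain ⟨⟨s, r⟩, ⟨hs, hr, he⟩, -⟩ := existsUnique_pair h
  have hex : ∀ x : G, x ∈ II → ∃ c ∈ KK, c * s * c⁻¹ = x := fun x hx => by
    obtain ⟨c, hc, hcs⟩ := exists_conj_kk h hs hx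
    exact ⟨c⁻¹, (kk_comm h h2 hc hc).2.2, by rw [inv_inv]; exact hcs⟩
  choose! kx hkx hkx' using hex
  letI := FTUse.RankOne.eeComm h h2
  let E := Additive (FTUse.RankOne.ee h h2)
  let s₀ : E := Additive.ofMul ⟨s, FTUse.RankOne.ii_subset_ee h h2 hs⟩
  have hII : ∀ x : E, x ≠ 0 → (x.toMul : G) ∈ II := fun x hx =>
    ⟨x.toMul.2.1, fun e => hx (Additive.toMul.injective (Subtype.ext e)), x.toMul.2.2⟩
  have hcl : ∀ (c : G), c ∈ KK → ∀ y : E, c * (y.toMul : G) * c⁻¹ ∈ FTUse.RankOne.ee h h2 := fun c hc y =>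
    (Subgroup.mem_normalizer_iff.1 (FTUse.RankOne.dd_normalizes_ee h h2 hc.1) _).1 y.toMul.2
  let m : E → E → E := fun x y => if hx : x = 0 then 0 else
    Additive.ofMul ⟨kx (x.toMul : G) * (y.toMul : G) * (kx (x.toMul : G))⁻¹, hcl _ (hkx _ (hII x hx)) y⟩
  have hm : ∀ x y : E, x ≠ 0 →
      ((m x y).toMul : G) = kx (x.toMul : G) * (y.toMul : G) * (kx (x.toMul : G))⁻¹ := fun x y hx => by
    simp only [m, dif_neg hx]; rfl
  have hm0 : ∀ y, m 0 y = 0 := fun y => by simp [m]
  have hmr0 : ∀ x, m x 0 = 0 := fun x => by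
    rcases eq_or_ne x 0 with rfl | hx
    · exact hm0 0
    · refine Additive.toMul.injective (Subtype.ext ?_)
      rw [hm x 0 hx]; simp
  have hval : ∀ x : E, x ≠ 0 → kx (x.toMul : G) * s * (kx (x.toMul : G))⁻¹ = (x.toMul : G) :=
    fun x hx => hkx' _ (hII x hx)
  have hmne : ∀ x y, x ≠ 0 → y ≠ 0 → m x y ≠ 0 := fun x y hx hy e => (hII y hy).2.1 (by
    have := hm x y hx
    rw [e] at this
    exact conj_eq_one_iff.1 this.symm)
  have hkm : ∀ x y : E, x ≠ 0 → y ≠ 0 → kx ((m x y).toMul : G) = kx (x.toMul : G) * kx (y.toMul : G) := by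
    intro x y hx hy
    have e := hval _ (hmne x y hx hy)
    have hk := kk_comm h h2 (hkx _ (hII x hx)) (hkx _ (hII y hy))
    have e2 : (kx ((m x y).toMul : G))⁻¹⁻¹ * s * (kx ((m x y).toMul : G))⁻¹ =
        (kx (x.toMul : G) * kx (y.toMul : G))⁻¹⁻¹ * s * (kx (x.toMul : G) * kx (y.toMul : G))⁻¹ := by
      rw [inv_inv, inv_inv, e, hm x y hx]
      conv_lhs => rw [← hval y hy]
      group
    exact inv_injective (FTUse.RankOne.conj_kk_inj h h2 hs
      (kk_comm h h2 (hkx _ (hII _ (hmne x y hx hy))) (hkx _ (hII x hx))).2.2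
      (kk_comm h h2 hk.2.1 hk.2.1).2.2 e2)
  have hs₀ : s₀ ≠ 0 := fun e => hs.2.1 (congrArg (fun x : E => (x.toMul : G)) e)
  obtain ⟨n, hn, ψ, hψ1, hψm⟩ := exists_field (E := E) (e := s₀)
    (fun x => Additive.toMul.injective (Subtype.ext x.toMul.2.2)) hs₀ m
    (fun x y y' => by
      rcases eq_or_ne x 0 with rfl | hx
      · simp [hm0]
      · refine Additive.toMul.injective (Subtype.ext ?_)
        show ((m x (y + y')).toMul : G) = ((m x y).toMul : G) * ((m x y').toMul : G)
        rw [hm x (y + y') hx, hm x y hx, hm x y' hx,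
          show ((y + y').toMul : G) = (y.toMul : G) * (y'.toMul : G) from rfl]
        group)
    hm0
    (fun x y => by
      rcases eq_or_ne x 0 with rfl | hx
      · rw [hm0, hmr0]
      rcases eq_or_ne y 0 with rfl | hy
      · rw [hm0, hmr0]
      refine Additive.toMul.injective (Subtype.ext ?_)
      rw [hm x y hx, hm y x hy]
      have hc := (kk_comm h h2 (hkx _ (hII x hx)) (hkx _ (hII y hy))).1
      obtain ⟨A, hA⟩ : ∃ A, A = kx (x.toMul : G) := ⟨_, rfl⟩
      obtain ⟨B, hB⟩ : ∃ B, B = kx (y.toMul : G) := ⟨_, rfl⟩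
      rw [← hA, ← hB, show (x.toMul : G) = A * s * A⁻¹ from (hA ▸ hval x hx).symm,
        show (y.toMul : G) = B * s * B⁻¹ from (hB ▸ hval y hy).symm]
      rw [← hA, ← hB] at hc
      calc A * (B * s * B⁻¹) * A⁻¹ = (A * B) * s * (A * B)⁻¹ := by group
        _ = (B * A) * s * (B * A)⁻¹ := by rw [hc]
        _ = _ := by group)
    (fun x y y' => by
      rcases eq_or_ne x 0 with rfl | hx
      · rw [hm0, hm0, hm0]
      rcases eq_or_ne y 0 with rfl | hy
      · rw [hmr0, hm0, hmr0]
      refine Additive.toMul.injective (Subtype.ext ?_)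
      rw [hm _ _ (hmne x y hx hy), hkm x y hx hy, hm x (m y y') hx, hm y y' hy]; group)
    (fun x => by
      refine Additive.toMul.injective (Subtype.ext ?_)
      rw [hm s₀ x hs₀]
      have h1 : kx (s₀.toMul : G) = 1 := by
        have e := hval s₀ hs₀
        have hk := hkx _ (hII s₀ hs₀)
        have := FTUse.RankOne.conj_kk_inj h h2 hs (kk_comm h h2 hk hk).2.2 (one_mem_kk h)
          (by rw [inv_inv, inv_one, one_mul, mul_one]; exact e)
        simpa using this
      rw [h1]; simp)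
    hmne
  let z : GaloisField 2 n → G := fun x => ((ψ.symm x).toMul : G)
  have hz_inj : Function.Injective z := fun x y e =>
    ψ.symm.injective (Additive.toMul.injective (Subtype.ext e))
  have hzne : ∀ x, x ≠ 0 → ψ.symm x ≠ 0 := fun x hx => (EmbeddingLike.map_ne_zero_iff).2 hx
  have hz0 : z 0 = 1 := by simp [z]
  have hsq : ∀ b : (GaloisField 2 n)ˣ, (b : GaloisField 2 n) * b ≠ 0 :=
    fun b => mul_ne_zero b.ne_zero b.ne_zero
  let k : (GaloisField 2 n)ˣ → G := fun b => kx (z ((b : GaloisField 2 n) * b))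
  have hkmem : ∀ b, k b ∈ KK := fun b => hkx _ (hII _ (hzne _ (hsq b)))
  have hmul : ∀ b b', k (b * b') = k b * k b' := fun b b' => by
    have e : ψ.symm (((b * b' : (GaloisField 2 n)ˣ) : GaloisField 2 n) * (b * b' : (GaloisField 2 n)ˣ)) =
        m (ψ.symm ((b : GaloisField 2 n) * b)) (ψ.symm ((b' : GaloisField 2 n) * b')) := by
      apply ψ.injective
      rw [hψm, AddEquiv.apply_symm_apply, AddEquiv.apply_symm_apply, AddEquiv.apply_symm_apply, Units.val_mul]
      ring
    show kx (z _) = kx (z _) * kx (z _)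
    simp only [z]
    rw [e, hkm _ _ (hzne _ (hsq b)) (hzne _ (hsq b'))]
  have hkconj : ∀ b x, k b * z x * (k b)⁻¹ = z ((b : GaloisField 2 n) * b * x) := fun b x => by
    have e : ψ.symm ((b : GaloisField 2 n) * b * x) = m (ψ.symm ((b : GaloisField 2 n) * b)) (ψ.symm x) := by
      apply ψ.injective
      rw [hψm, AddEquiv.apply_symm_apply, AddEquiv.apply_symm_apply, AddEquiv.apply_symm_apply]
    show _ = ((ψ.symm _).toMul : G)
    rw [e, hm _ _ (hzne _ (hsq b))]
  have hkinj : Function.Injective k := fun b b' e => by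
    have e1 : z ((b : GaloisField 2 n) * b * 1) = z ((b' : GaloisField 2 n) * b' * 1) := by
      rw [← hkconj, ← hkconj, e]
    have e2 := hz_inj e1
    rw [mul_one, mul_one, ← pow_two, ← pow_two] at e2
    exact Units.ext (frobenius_inj (GaloisField 2 n) 2 e2)
  have hcard : Nat.card (GaloisField 2 n) = param G a := by
    rw [← Nat.card_congr ψ.toEquiv, param, ← Nat.card_congr (Equiv.optionSubtypeNe (0 : E)),
      Finite.card_option]
    congr 1
    exact Nat.card_congr
      { toFun := fun x => ⟨(x.1.toMul : G), hII x.1 x.2⟩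
        invFun := fun g => ⟨Additive.ofMul ⟨g.1, g.2.1, g.2.2.2⟩, fun e => g.2.2.1
          (congrArg (fun x : E => (x.toMul : G)) e)⟩
        left_inv := fun x => rfl
        right_inv := fun g => rfl }
  refine ⟨n, ?_, hcard.symm.trans (GaloisField.card 2 n hn), ⟨{
    z := z
    z_add := fun x y => by
      show ((ψ.symm (x + y)).toMul : G) = _
      rw [map_add]; rfl
    z_inj := hz_inj
    z_mem := fun x => (ψ.symm x).toMul.2
    z_surj := fun g hg hgg => ⟨ψ (Additive.ofMul ⟨g, hg, hgg⟩), by simp [z]⟩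
    k := MonoidHom.mk' k hmul
    k_mem := hkmem
    k_inj := hkinj
    k_surj := fun g hg => ?_
    k_conj := hkconj
    dist := ⟨r, hr, by
      have : z 1 = s := by simp only [z, ← hψ1, AddEquiv.symm_apply_apply]; rfl
      rw [this]; exact he⟩ }⟩⟩
  · obtain ⟨u, u', hu, hu', hne⟩ := exists_two_ii h h2
    have : 3 ≤ Nat.card (GaloisField 2 n) := by
      rw [hcard, param]
      haveI : Nontrivial II := ⟨⟨u, hu⟩, ⟨u', hu'⟩, fun e => hne (congrArg Subtype.val e)⟩
      have := Finite.one_lt_card (α := II)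
      omega
    rw [GaloisField.card 2 n hn] at this
    by_contra hn2
    interval_cases n
    · exact hn rfl
    · norm_num at this
  · have hc : Nat.card (GaloisField 2 n)ˣ = Nat.card KK := by
      rw [card_kk h, Nat.card_units, hcard, param, Nat.add_sub_cancel]
    obtain ⟨b, hb⟩ := ((Nat.bijective_iff_injective_and_card (fun b => (⟨k b, hkmem b⟩ : KK))).2
      ⟨fun b b' e => hkinj (congrArg Subtype.val e), hc⟩).2 ⟨g, hg⟩
    exact ⟨b, congrArg Subtype.val hb⟩

end Cfsg.Agent.SuzukiRankOne
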