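import Cfsg.Agent.Lib.SuzukiRankOne.Main
import Cfsg.Agent.Lib.SuzukiRankOne.Suzuki.Main
import Cfsg.Agent.Lib.Bender.Induction
import Cfsg.Agent.Lib.Suzuki.LieModel
import Cfsg.Agent.S0324
/-!
# Simple groups with a strongly embedded subgroup and a regular normal subgroup on the other cosets

* `two_involutions_of_simple` : a simple group with a strongly embedded subgroup has a four-group;
* `setup_of_regular` : such a subgroup gives a rank one set-up on the cosets;
* `classify_simple` : the three families from a set-up in a simple group;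
* `classify_regular` : hence the three families (from `KernelShape`).
-/

set_option autoImplicit false

namespace Cfsg.Agent.SuzukiRankOne

open MulAction Cfsg.Agent.Involution

universe u v

variable {G : Type u} [Group G] [Finite G]

theorem two_involutions_of_simple [IsSimpleGroup G] {H : Subgroup G} (hH : Cfsg.IsStronglyEmbedded H) :
    TwoInvolutions G := by
  haveI : Fact (Nat.Prime 2) := ⟨Nat.prime_two⟩
  by_contra hcon
  obtain ⟨s, hsH, hs⟩ := exists_involution_mem hH.2.1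
  obtain ⟨u, hu, huH⟩ := exists_not_mem hH
  have hiso : IsIsolatedInvolution s := ⟨hs, fun g hg => by
    by_contra hne
    exact hcon ⟨g * s * g⁻¹, s, fun e => ne_one hs (conj_eq_one_iff.1 e), ne_one hs, hne,
      mul_self (by rw [Involution.orderOf_conj, hs]), mul_self hs, hg.symm.eq⟩⟩
  have hbot : Cfsg.pPrimeCore 2 G = ⊥ := by
    refine (Cores.pPrimeCore_normal 2 G).eq_bot_or_eq_top.resolve_right fun htop => ?_
    have h := Cores.coprime_card_pPrimeCore (G := G) 2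
    rw [htop, Subgroup.card_top] at h
    refine Nat.prime_two.coprime_iff_not_dvd.1 h.symm ?_
    rw [← hs]
    exact orderOf_dvd_natCard s
  have hc : ∀ g, s * g = g * s := fun g => by
    have := ZStar.zStar_of_brauerSuzuki ZStar.uniqueInvolution hiso g
    rw [hbot, Subgroup.mem_bot, mul_inv_eq_one, mul_inv_eq_iff_eq_mul] at this
    exact this
  exact huH (centralizer_le hH hs hsH (Involution.mem_centralizer_singleton.2 (hc u).symm))

theorem setup_of_regular [IsSimpleGroup G] (H : Subgroup G) (hH : Cfsg.IsStronglyEmbedded H)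
    (Q : Subgroup G) (hQH : Q ≤ H) (hQn : (Q.subgroupOf H).Normal)
    (htrans : ∀ g₁ g₂ : G, g₁ ∉ H → g₂ ∉ H → ∃ u ∈ Q, g₂⁻¹ * (u * g₁) ∈ H)
    (hreg : ∀ g : G, g ∉ H → ∀ u ∈ Q, g⁻¹ * (u * g) ∈ H → u = 1) :
    ∃ t : G, FaithfulSMul G (G ⧸ H) ∧ Cfsg.IsRankOneSetup G (G ⧸ H) ((1 : G) : G ⧸ H) t Q := by
  classical
  obtain ⟨t, ht, htH⟩ := exists_not_mem hH
  obtain ⟨o, ho⟩ : ∃ o : G ⧸ H, o = ((1 : G) : G ⧸ H) := ⟨_, rfl⟩
  have hst : ∀ g : G, g ∈ stabilizer G o ↔ g ∈ H := fun g => by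
    rw [mem_stabilizer_iff, ho]; exact Bender.smul_one_eq
  have hne : ∀ g : G, (g : G ⧸ H) ≠ o ↔ g ∉ H := fun g => by
    rw [ho, Ne, QuotientGroup.eq, mul_one, inv_mem_iff]
  have htr : ∀ {x y : G ⧸ H}, x ≠ o → y ≠ o → ∃ u ∈ Q, u • x = y := by
    intro x y hx hy
    induction x using QuotientGroup.induction_on with | _ g₁ => ?_
    induction y using QuotientGroup.induction_on with | _ g₂ => ?_
    obtain ⟨u, hu, he⟩ := htrans g₁ g₂ ((hne _).1 hx) ((hne _).1 hy)
    refine ⟨u, hu, ?_⟩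
    rw [MulAction.Quotient.smul_mk, smul_eq_mul]
    exact (QuotientGroup.eq.2 he).symm
  have hb : t • o ≠ o := fun e => htH ((hst t).1 (mem_stabilizer_iff.2 e))
  have hfaith : FaithfulSMul G (G ⧸ H) := by
    refine ⟨fun {g g'} e => ?_⟩
    have hN := (MulAction.toPermHom G (G ⧸ H)).normal_ker
    have hbot : (MulAction.toPermHom G (G ⧸ H)).ker = ⊥ := hN.eq_bot_or_eq_top.resolve_right fun htop => hb (by
      have : t ∈ (MulAction.toPermHom G (G ⧸ H)).ker := htop ▸ Subgroup.mem_top t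
      exact congrFun (congrArg DFunLike.coe (MonoidHom.mem_ker.1 this)) o)
    exact (MonoidHom.ker_eq_bot_iff _).1 hbot (Equiv.ext e)
  rw [← ho]
  have hmv : ∀ {x : G ⧸ H}, ∀ g : G, g ∈ stabilizer G o → x ≠ o → g • x ≠ o := fun g hg hx e =>
    hx (smul_left_cancel g (e.trans (mem_stabilizer_iff.1 hg).symm))
  have hdec : ∀ g ∈ stabilizer G o, ∃ x ∈ Q, x⁻¹ * g ∈ stabilizer G o ⊓ stabilizer G (t • o) := by
    intro g hg
    obtain ⟨x, hx, hxe⟩ := htr hb (hmv g hg hb)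
    refine ⟨x, hx, Subgroup.mul_mem _ (Subgroup.inv_mem _ ((hst x).2 (hQH hx))) hg, ?_⟩
    show (x⁻¹ * g) • t • o = t • o
    rw [mul_smul, ← hxe, inv_smul_smul]
  have hinf : ∀ x ∈ Q, x • (t • o) = t • o → x = 1 := fun x hx e => by
    refine hreg t htH x hx ?_
    have e' : (t⁻¹ * x * t) • o = o := by rw [mul_smul, mul_smul, e, inv_smul_smul]
    rw [← mul_assoc]
    exact (hst _).1 e'
  have hodd : Odd (Nat.card ↥(stabilizer G o ⊓ stabilizer G (t • o))) := odd_two_point hH hb.symm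
  refine ⟨t, hfaith,
    { two_transitive := ?_
      mul_self := mul_self ht
      ne_one := ne_one ht
      not_mem := fun e => hb e
      le := fun x hx => (hst x).2 (hQH hx)
      conj_mem := fun g hg x hx => Subgroup.mem_subgroupOf.1
        (hQn.conj_mem ⟨x, hQH hx⟩ (Subgroup.mem_subgroupOf.2 hx) ⟨g, (hst g).1 hg⟩)
      inf_eq_bot := (Subgroup.eq_bot_iff_forall _).2 fun x hx => hinf x hx.1 hx.2
      sup_eq := le_antisymm (sup_le (fun x hx => (hst x).2 (hQH hx)) inf_le_left) fun g hg => ?_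
      even_card := ?_
      odd_card := hodd }⟩
  · refine is_two_pretransitive_iff.2 fun {b c b' c'} hbc hbc' => ?_
    obtain ⟨g₁, hg₁⟩ := MulAction.exists_smul_eq G b o
    obtain ⟨g₂, hg₂⟩ := MulAction.exists_smul_eq G b' o
    obtain ⟨u, hu, hue⟩ := htr (x := g₁ • c) (y := g₂ • c')
      (fun e => hbc (smul_left_cancel g₁ (hg₁.trans e.symm)))
      (fun e => hbc' (smul_left_cancel g₂ (hg₂.trans e.symm)))
    refine ⟨g₂⁻¹ * u * g₁, ?_, ?_⟩
    · rw [mul_smul, mul_smul, hg₁, show u • o = o from (hst u).2 (hQH hu), ← hg₂, inv_smul_smul]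
    · rw [mul_smul, mul_smul, hue, inv_smul_smul]
  · obtain ⟨x, hx, hd⟩ := hdec g hg
    have := Subgroup.mul_mem_sup hx hd
    rwa [mul_inv_cancel_left] at this
  · have hcard : Nat.card H = Nat.card Q * Nat.card ↥(stabilizer G o ⊓ stabilizer G (t • o)) := by
      rw [← Nat.card_prod]
      refine (Nat.card_congr (Equiv.ofBijective
        (fun p : Q × ↥(stabilizer G o ⊓ stabilizer G (t • o)) =>
          (⟨(p.1 : G) * p.2, mul_mem (hQH p.1.2) ((hst _).1 p.2.2.1)⟩ : H)) ⟨?_, ?_⟩)).symm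
      · intro p p' e
        have e' : (p.1 : G) * p.2 = p'.1 * p'.2 := congrArg Subtype.val e
        have h1 := hinf _ (Q.mul_mem (Q.inv_mem p'.1.2) p.1.2) (by
          rw [show (p'.1 : G)⁻¹ * p.1 = p'.2 * (p.2 : G)⁻¹ by
            rw [eq_mul_inv_iff_mul_eq, mul_assoc, e', inv_mul_cancel_left]]
          exact (mul_mem p'.2.2 (inv_mem p.2.2)).2)
        rw [inv_mul_eq_one] at h1
        rw [← h1] at e'
        exact Prod.ext (Subtype.ext h1.symm) (Subtype.ext (mul_left_cancel e'))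
      · rintro ⟨g, hg⟩
        obtain ⟨x, hx, hd⟩ := hdec g ((hst g).2 hg)
        exact ⟨⟨⟨x, hx⟩, ⟨_, hd⟩⟩, Subtype.ext (mul_inv_cancel_left x g)⟩
    have hev := hH.2.1
    rw [hcard] at hev
    exact (Nat.even_mul.1 hev).resolve_right (Nat.not_even_iff_odd.2 hodd)

/-- A simple group with a rank one set-up is one of the three families, from `KernelShape`. -/
theorem classify_simple {Ω : Type v} [MulAction G Ω] [FaithfulSMul G Ω] [IsSimpleGroup G]
    (hK : KernelShape.{u, v}) {a : Ω} {t : G} {Q : Subgroup G} (h : Cfsg.IsRankOneSetup G Ω a t Q)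
    (h2 : TwoInvolutions G) :
    (∃ (F : Type) (_ : Field F) (_ : Fintype F), CharP F 2 ∧ 4 ≤ Fintype.card F ∧
        Nonempty (G ≃* Matrix.ProjectiveSpecialLinearGroup (Fin 2) F)) ∨
      Cfsg.IsSuzuki G ∨
      (∃ (F : Type) (_ : Field F) (_ : Fintype F) (q : ℕ), Fintype.card F = q ^ 2 ∧ Even q ∧ 4 ≤ q ∧
        Nonempty (G ≃* Cfsg.PSU 3 F q)) := by
  obtain ⟨L, hL, hodd, hc⟩ := classify hK Suzuki.suzukiShape h h2
  obtain rfl : L = ⊤ := hL.eq_bot_or_eq_top.resolve_left fun e => by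
    rw [e, Subgroup.index_bot] at hodd
    exact Nat.not_even_iff_odd.2 hodd (even_iff_two_dvd.2
      ((Involution.orderOf_of_sq h.mul_self h.ne_one) ▸ orderOf_dvd_natCard t))
  have hpow : ∀ n : ℕ, 2 ≤ n → 4 ≤ 2 ^ n := fun n hn => Nat.pow_le_pow_right (by norm_num : 1 ≤ 2) hn
  rcases hc with ⟨F, _, _, ⟨n, hn, hF⟩, ⟨e⟩⟩ | ⟨F, _, _, m, hm, hF, ⟨e⟩⟩ | ⟨F, _, _, n, hn, hF, ⟨e⟩⟩
  · refine Or.inl ⟨F, inferInstance, inferInstance, ?_, hF ▸ hpow n hn, ⟨Subgroup.topEquiv.symm.trans e⟩⟩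
    haveI : Fact (Nat.Prime 2) := ⟨Nat.prime_two⟩
    exact charP_of_card_eq_prime_pow hF
  · refine Or.inr (Or.inl ⟨inferInstance, m, hm, ?_⟩)
    rw [Nat.card_congr (Subgroup.topEquiv.symm.trans e).toEquiv,
      ← Nat.card_congr (Suzuki.lieEquiv (F := F) hm hF).toEquiv, S0324.result hm hF]
  · exact Or.inr (Or.inr ⟨F, inferInstance, inferInstance, 2 ^ n, hF,
      Nat.even_pow.2 ⟨even_two, by omega⟩, hpow n hn, ⟨Subgroup.topEquiv.symm.trans e⟩⟩)


/-- Suzuki's theorem for a strongly embedded subgroup, from `KernelShape`. -/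
theorem classify_regular [IsSimpleGroup G] (hK : KernelShape.{u, u}) (H : Subgroup G)
    (hH : Cfsg.IsStronglyEmbedded H)
    (Q : Subgroup G) (hQH : Q ≤ H) (hQn : (Q.subgroupOf H).Normal)
    (htrans : ∀ g₁ g₂ : G, g₁ ∉ H → g₂ ∉ H → ∃ u ∈ Q, g₂⁻¹ * (u * g₁) ∈ H)
    (hreg : ∀ g : G, g ∉ H → ∀ u ∈ Q, g⁻¹ * (u * g) ∈ H → u = 1) :
    (∃ (F : Type) (_ : Field F) (_ : Fintype F), CharP F 2 ∧ 4 ≤ Fintype.card F ∧
        Nonempty (G ≃* Matrix.ProjectiveSpecialLinearGroup (Fin 2) F)) ∨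
      Cfsg.IsSuzuki G ∨
      (∃ (F : Type) (_ : Field F) (_ : Fintype F) (q : ℕ), Fintype.card F = q ^ 2 ∧ Even q ∧ 4 ≤ q ∧
        Nonempty (G ≃* Cfsg.PSU 3 F q)) := by
  obtain ⟨t, hfaith, h⟩ := setup_of_regular H hH Q hQH hQn htrans hreg
  haveI := hfaith
  exact classify_simple hK h (two_involutions_of_simple hH)

end Cfsg.Agent.SuzukiRankOne
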