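import Cfsg.Agent.Lib.SuzukiRankOne.Frame
import Cfsg.Agent.Lib.GLOrder.Basic
/-!
# `⟨Z, t⟩` outside its orbit of `a`

* `Frame.Blk` : the `q + 1` points `a`, `z x • (t • a)`; `Frame.eq_one_of_fix` : an element of
  `⟨Z, t⟩` fixing a further point is trivial;
* `Frame.exists_hom_smul` : if `|Q| = q³` then `⟨Z, t⟩` is transitive outside `Blk`;
* `Frame.elementary` : if `|Q| = q` then `⟨Z, t⟩` is normal of odd index.
-/

set_option autoImplicit false

namespace Cfsg.Agent.SuzukiRankOne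

open MulAction Cfsg.Agent.RankOne Cfsg.Agent.RankOne.Setup
open scoped MatrixGroups

universe u v w

theorem exists_eigen {F : Type*} [Field F] [Fintype F] [CharP F 2] (g : SL(2, F))
    (hg : g ^ (Fintype.card F - 1) = 1) : ∃ l : F, (g.1 0 0 + l) * (g.1 1 1 + l) + g.1 0 1 * g.1 1 0 = 0 := by
  classical
  open Polynomial in
  have hq : (X : F[X]) ^ Fintype.card F - X = ∏ x : F, (X - C x) := by
    have hcard : 1 < Fintype.card F := Fintype.one_lt_card
    have hr := FiniteField.roots_X_pow_card_sub_X F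
    have hd : ((X : F[X]) ^ Fintype.card F - X).natDegree = Fintype.card F :=
      FiniteField.X_pow_card_sub_X_natDegree_eq F hcard
    have hm : ((X : F[X]) ^ Fintype.card F - X).Monic :=
      monic_X_pow_sub (by rw [degree_X]; exact_mod_cast hcard)
    have := prod_multiset_X_sub_C_of_monic_of_roots_card_eq hm (by
      rw [hr, hd]; rfl)
    rw [hr] at this
    exact this.symm
  have h1 : g.1 ^ Fintype.card F = g.1 := by
    have e : g ^ Fintype.card F = g := by
      rw [← Nat.sub_add_cancel (Fintype.card_pos (α := F)), pow_succ, hg, one_mul]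
    rw [← Matrix.SpecialLinearGroup.coe_pow, e]
  have h2 : (Polynomial.aeval g.1 (∏ x : F, (Polynomial.X - Polynomial.C x))).det = 0 := by
    rw [← hq, map_sub, map_pow, Polynomial.aeval_X, h1, sub_self, Matrix.det_zero]
  let φ : Polynomial F →* F :=
    (Matrix.detMonoidHom).comp ((Polynomial.aeval g.1).toRingHom.toMonoidHom)
  have h3 : φ (∏ x : F, (Polynomial.X - Polynomial.C x)) = 0 := h2
  rw [map_prod, Finset.prod_eq_zero_iff] at h3
  obtain ⟨l, -, hl⟩ := h3
  refine ⟨l, ?_⟩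
  have e : φ (Polynomial.X - Polynomial.C l) =
      (g.1 0 0 + l) * (g.1 1 1 + l) + g.1 0 1 * g.1 1 0 := by
    show (Polynomial.aeval g.1 (Polynomial.X - Polynomial.C l)).det = _
    rw [map_sub, Polynomial.aeval_X, Polynomial.aeval_C, Matrix.det_fin_two]
    simp [CharTwo.sub_eq_add, Matrix.algebraMap_matrix_apply]
  rw [← e, hl]

variable {G : Type u} {Ω : Type v} [Group G] [MulAction G Ω] {a : Ω} {t : G} {Q : Subgroup G}
  {F : Type w} [Field F]

local notation "DD" => (stabilizer G a ⊓ stabilizer G (t • a) : Subgroup G)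
local notation "KK" => Cfsg.invertedBy (stabilizer G a ⊓ stabilizer G (t • a)) t

namespace Frame

variable (P : Frame a t Q F)

/-- The orbit of `a` under `⟨Z, t⟩`. -/
def Blk : Set Ω := {y | y = a ∨ ∃ x, y = P.co.z x • (t • a)}

variable [Finite G]

theorem z_smul_b_ne (x : F) : P.co.z x • (t • a) ≠ a :=
  smul_ne_self P.setup (P.co.z_mem_Q P.setup x) (t_smul_ne P.setup)

theorem z_smul_b_inj {x y : F} (e : P.co.z x • (t • a) = P.co.z y • (t • a)) : x = y :=
  P.co.z_inj (congrArg Subtype.val ((regular P.setup (t_smul_ne P.setup) (P.z_smul_b_ne y)).unique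
    (y₁ := ⟨_, P.co.z_mem_Q P.setup x⟩) (y₂ := ⟨_, P.co.z_mem_Q P.setup y⟩) e rfl))

theorem blk_card : Nat.card P.Blk = Nat.card (Option F) :=
  (Nat.card_eq_of_bijective (fun o : Option F => (⟨o.elim a fun x => P.co.z x • (t • a), by
      cases o with
      | none => exact Or.inl rfl
      | some x => exact Or.inr ⟨x, rfl⟩⟩ : P.Blk))
    ⟨fun o o' e => by
      have e' := congrArg Subtype.val e
      cases o <;> cases o' <;> simp only [Option.elim_none, Option.elim_some] at e'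
      · rfl
      · exact absurd e'.symm (P.z_smul_b_ne _)
      · exact absurd e' (P.z_smul_b_ne _)
      · rw [P.z_smul_b_inj e'],
    fun y => by
      obtain ⟨y, rfl | ⟨x, rfl⟩⟩ := y
      · exact ⟨none, rfl⟩
      · exact ⟨some x, rfl⟩⟩).symm

variable [FaithfulSMul G Ω] in
/-- A non-trivial element of `K` fixes no third point. -/
theorem k_fix_only {b : Fˣ} (hb : b ≠ 1) {y : Ω} (hy : P.co.k b • y = y) : y = a ∨ y = t • a := by
  by_contra hne
  rw [not_or] at hne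
  obtain ⟨x, hx, hxe⟩ := exists_smul_eq P.setup hne.1
  have hk := P.co.k_mem b
  have hc := Subgroup.mem_centralizer_iff.1 (mem_centralizer_of_smul P.setup (X := {P.co.k b}) hx
    (fun c hc => by obtain rfl : c = P.co.k b := hc; exact (mem_dd.1 hk.1).1) (t_smul_ne P.setup)
    (fun c hc => by obtain rfl : c = P.co.k b := hc; exact (mem_dd.1 hk.1).2)
    (fun c hc => by obtain rfl : c = P.co.k b := hc; exact hy) hxe) _ rfl
  have := kk_fpf P.setup hk (fun e => hb (P.co.k_inj (by rw [e, map_one]))) hx hc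
  rw [this, one_smul] at hxe
  exact hne.2 hxe.symm

variable [FaithfulSMul G Ω] [Finite F] [CharP F 2]

theorem hom_smul_blk (g : SL(2, F)) : P.hom g • a ∈ P.Blk := by
  by_cases hc : g.1 1 0 = 0
  · exact Or.inl (P.hom_smul_a hc)
  · exact Or.inr ⟨_, P.hom_smul_a' hc⟩

theorem eigen_fix {g : SL(2, F)} (hc : g.1 1 0 ≠ 0) {l : F}
    (hl : (g.1 0 0 + l) * (g.1 1 1 + l) + g.1 0 1 * g.1 1 0 = 0) :
    P.hom g • (P.co.z ((g.1 0 0 + l) / g.1 1 0) • (t • a)) = P.co.z ((g.1 0 0 + l) / g.1 1 0) • (t • a) := by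
  obtain ⟨u, hu⟩ : ∃ u, u = (g.1 0 0 + l) / g.1 1 0 := ⟨_, rfl⟩
  rw [← hu]
  obtain ⟨g2, hg2⟩ : ∃ g2, g2 = SL2Data.wSL F * (upSL u * g * upSL u) * SL2Data.wSL F := ⟨_, rfl⟩
  have h10 : g2.1 1 0 = 0 := by
    have h2 : (2 : F) = 0 := CharTwo.two_eq_zero
    rw [hg2]
    simp only [Matrix.SpecialLinearGroup.coe_mul, SL2Data.coe_wSL, coe_upSL]
    rw [Matrix.eta_fin_two g.1, Matrix.mul_fin_two, Matrix.mul_fin_two, Matrix.mul_fin_two, Matrix.mul_fin_two]
    simp [CharTwo.neg_eq]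
    rw [hu]
    field_simp
    grind
  have e := P.hom_smul_a h10
  rw [hg2, map_mul, map_mul, map_mul, map_mul, P.hom_wSL, P.hom_upSL, mul_smul, mul_smul, mul_smul,
    mul_smul] at e
  have e2 := congrArg (t • ·) e
  simp only [← mul_smul, ← mul_assoc, P.setup.mul_self, one_mul] at e2
  rw [mul_smul, mul_smul, smul_eq_iff_eq_inv_smul, mul_inv_rev, P.co.z_inv, mul_smul] at e2
  conv_lhs => rw [e2]
  rw [smul_inv_smul]

/-- An element of `⟨Z, t⟩` fixing a point outside the block is trivial. -/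
theorem eq_one_of_fix {g : SL(2, F)} {x : Ω} (hx : x ∉ P.Blk) (hg : P.hom g • x = x) : g = 1 := by
  classical
  letI := Fintype.ofFinite F
  have hxa : x ≠ a := fun e => hx (Or.inl e)
  have h2 : (2 : F) = 0 := CharTwo.two_eq_zero
  have hdet := g.2
  rw [Matrix.det_fin_two] at hdet
  by_cases hc : g.1 1 0 = 0
  · rcases P.hom_eq g with ⟨-, b, hb, e⟩ | ⟨h', -⟩
    swap
    · exact absurd hc h'
    by_cases hb1 : b = 1
    · rw [e, hb1, map_one, mul_one] at hg
      have := Setup.eq_one_of_fix P.setup (P.co.z_mem_Q P.setup _) hxa hg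
      apply P.hom_injective
      rw [e, hb1, map_one, mul_one, this, map_one]
    exfalso
    have h11 : g.1 1 1 = ((b⁻¹ : Fˣ) : F) := by
      rw [Units.val_inv_eq_inv_val, hb]
      rw [hc, mul_zero, sub_zero] at hdet
      exact eq_inv_of_mul_eq_one_right hdet
    have hne : g.1 0 0 + g.1 1 1 ≠ 0 := by
      rw [← hb, h11]
      intro e0
      have e1 := CharTwo.add_eq_zero.1 e0
      refine hb1 (Units.ext (frobenius_inj F 2 ?_))
      show (b : F) ^ 2 = ((1 : Fˣ) : F) ^ 2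
      rw [pow_two]
      conv_lhs => arg 2; rw [e1]
      simp
    obtain ⟨u, hu⟩ : ∃ u, u = g.1 0 1 / (g.1 0 0 + g.1 1 1) := ⟨_, rfl⟩
    have econj : upSL u * g * upSL u = dSL b := by
      apply Subtype.ext
      simp only [Matrix.SpecialLinearGroup.coe_mul, coe_upSL, dSL]
      rw [Matrix.eta_fin_two g.1, Matrix.mul_fin_two, Matrix.mul_fin_two]
      ext i j
      fin_cases i <;> fin_cases j <;> simp [hc, hb, ← h11]
      rw [hu]
      field_simp
      grind
    have e2 := congrArg P.hom econj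
    rw [map_mul, map_mul, P.hom_upSL, P.hom_dSL] at e2
    have hfix : P.co.k b • (P.co.z u • x) = P.co.z u • x := by
      rw [← e2, mul_smul, mul_smul, ← mul_smul (P.co.z u) (P.co.z u), P.co.z_sq, one_smul, hg]
    rcases P.k_fix_only hb1 hfix with h' | h'
    · rw [smul_eq_iff_eq_inv_smul, P.co.z_inv, P.co.z_smul_a] at h'
      exact hxa h'
    · rw [smul_eq_iff_eq_inv_smul, P.co.z_inv] at h'
      exact hx (Or.inr ⟨u, h'⟩)
  exfalso
  have hy : ∀ y ∈ P.Blk, y ≠ x := fun y hy e => hx (e ▸ hy)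
  by_cases hτ : g.1 0 0 + g.1 1 1 = 0
  · -- an involution
    have hgg : g * g = 1 := by
      have e11 : g.1 1 1 = g.1 0 0 := (CharTwo.add_eq_zero.1 hτ).symm
      apply Subtype.ext
      ext i j
      fin_cases i <;> fin_cases j <;> simp [Matrix.mul_apply, Fin.sum_univ_two, e11] <;> grind
    have hl : (g.1 0 0 + 1) * (g.1 1 1 + 1) + g.1 0 1 * g.1 1 0 = 0 := by grind
    have h1 : P.hom g ≠ 1 := fun e => hc (by
      rw [P.hom_injective (e.trans (map_one P.hom).symm)]; simp)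
    exact hy _ (Or.inr ⟨_, rfl⟩) (fixed_unique P.setup h1 (by rw [← map_mul, hgg, map_one])
      (P.eigen_fix hc hl) hg)
  -- `g` is inverted by an involution `z`
  obtain ⟨v, hv⟩ : ∃ v, v = (g.1 0 0 + g.1 1 1) / g.1 1 0 := ⟨_, rfl⟩
  have hv0 : v ≠ 0 := hv ▸ div_ne_zero hτ hc
  have hinv : upSL v * g * upSL v * g = 1 := by
    apply Subtype.ext
    simp only [Matrix.SpecialLinearGroup.coe_mul, coe_upSL]
    rw [Matrix.eta_fin_two g.1, Matrix.mul_fin_two, Matrix.mul_fin_two, Matrix.mul_fin_two]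
    ext i j
    fin_cases i <;> fin_cases j <;> simp <;> rw [hv] <;> field_simp <;> grind
  have einv : P.co.z v * P.hom g * P.co.z v = (P.hom g)⁻¹ := by
    have := congrArg P.hom hinv
    rw [map_mul, map_mul, map_mul, P.hom_upSL, map_one] at this
    exact eq_inv_of_mul_eq_one_left this
  have hgx' : P.hom g • (P.co.z v • x) = P.co.z v • x := by
    have e : P.hom g * P.co.z v = P.co.z v * (P.hom g)⁻¹ := by
      rw [← einv]; simp only [← mul_assoc, P.co.z_sq, one_mul]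
    rw [← mul_smul, e, mul_smul, show (P.hom g)⁻¹ • x = x by rw [inv_smul_eq_iff, hg]]
  have hne : x ≠ P.co.z v • x := fun e => hv0 (P.co.z_eq_one.1
    (Setup.eq_one_of_fix P.setup (P.co.z_mem_Q P.setup v) hxa e.symm))
  obtain ⟨γ, hγ1, hγ2⟩ := is_two_pretransitive_iff.1 P.setup.two_transitive hne
    (t_smul_ne P.setup).symm
  have hγ1' : γ⁻¹ • a = x := by rw [← hγ1, inv_smul_smul]
  have hγ2' : γ⁻¹ • (t • a) = P.co.z v • x := by rw [← hγ2, inv_smul_smul]
  have hi1 : γ * P.co.z v * γ⁻¹ * (γ * P.co.z v * γ⁻¹) = 1 := by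
    rw [show γ * P.co.z v * γ⁻¹ * (γ * P.co.z v * γ⁻¹) = γ * (P.co.z v * P.co.z v) * γ⁻¹ by group,
      P.co.z_sq]; group
  obtain ⟨l, hl, hll⟩ := exists_sqrt P.setup (swap_mem_kk P.setup hi1
    (by rw [mul_smul, mul_smul, hγ1', hγ2]))
  have hlt : t * l * t = l⁻¹ := ((mem_kk P.setup).1 hl).2
  have hi : γ * P.co.z v * γ⁻¹ = l * t * l⁻¹ := by
    rw [← hlt, show l * t * (t * l * t) = l * (t * t) * l * t by group, P.setup.mul_self, mul_one, hll,
      mul_assoc (γ * P.co.z v * γ⁻¹), P.setup.mul_self, mul_one]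
  obtain ⟨g', hg'def⟩ : ∃ g', g' = l⁻¹ * (γ * P.hom g * γ⁻¹) * l := ⟨_, rfl⟩
  have hg'D : g' ∈ DD := by
    rw [hg'def]
    refine mul_mem (mul_mem (inv_mem hl.1) (mem_dd.2 ⟨?_, ?_⟩)) hl.1
    · rw [mul_smul, mul_smul, hγ1', hg, hγ1]
    · rw [mul_smul, mul_smul, hγ2', hgx', hγ2]
  have ht' : t = l⁻¹ * (γ * P.co.z v * γ⁻¹) * l := by rw [hi]; group
  have hg'K : g' ∈ KK := by
    refine (mem_kk P.setup).2 ⟨hg'D, ?_⟩
    calc t * g' * t = l⁻¹ * (γ * P.co.z v * γ⁻¹) * l * g' * (l⁻¹ * (γ * P.co.z v * γ⁻¹) * l) :=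
          congrArg (fun y => y * g' * y) ht'
      _ = l⁻¹ * γ * (P.co.z v * P.hom g * P.co.z v) * γ⁻¹ * l := by rw [hg'def]; group
      _ = g'⁻¹ := by rw [einv, hg'def]; group
  obtain ⟨b, hb⟩ := P.co.k_surj g' hg'K
  have hpow : g ^ (Fintype.card F - 1) = 1 := by
    apply P.hom_injective
    rw [map_pow, map_one, show P.hom g = γ⁻¹ * l * g' * (γ⁻¹ * l)⁻¹ by rw [hg'def]; group,
      conj_pow, ← hb, ← map_pow, show b ^ (Fintype.card F - 1) = 1 by
        rw [← Fintype.card_units]; exact pow_card_eq_one, map_one]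
    group
  obtain ⟨ev, hev⟩ := exists_eigen g hpow
  have hfix := P.eigen_fix hc hev
  have hb1 : b ≠ 1 := fun e => by
    have e' : P.hom g = 1 := by
      rw [show P.hom g = γ⁻¹ * l * g' * (γ⁻¹ * l)⁻¹ by rw [hg'def]; group, ← hb, e, map_one]; group
    exact hc (by rw [P.hom_injective (e'.trans (map_one P.hom).symm)]; simp)
  obtain ⟨y, hyB, hyf⟩ : ∃ y ∈ P.Blk, P.hom g • y = y := ⟨_, Or.inr ⟨_, rfl⟩, hfix⟩
  have hgy : g' • ((γ⁻¹ * l)⁻¹ • y) = (γ⁻¹ * l)⁻¹ • y := by
    rw [hg'def, ← mul_smul,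
      show l⁻¹ * (γ * P.hom g * γ⁻¹) * l * (γ⁻¹ * l)⁻¹ = (γ⁻¹ * l)⁻¹ * P.hom g by group,
      mul_smul, hyf]
  rw [← hb] at hgy
  have hlfix : l⁻¹ • a = a ∧ l⁻¹ • (t • a) = t • a := mem_dd.1 (inv_mem hl.1)
  rcases P.k_fix_only hb1 hgy with h' | h' <;> rw [inv_smul_eq_iff, mul_smul] at h'
  · rw [show l • a = a from (mem_dd.1 hl.1).1, hγ1'] at h'
    exact hy y hyB h'
  · rw [show l • (t • a) = t • a from (mem_dd.1 hl.1).2, hγ2'] at h'
    refine hx ?_
    have hzy : P.co.z v • y ∈ P.Blk := by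
      rcases hyB with rfl | ⟨w, rfl⟩
      · exact Or.inl (P.co.z_smul_a v)
      · exact Or.inr ⟨v + w, by rw [← mul_smul, P.co.z_add]⟩
    rwa [h', ← mul_smul, P.co.z_sq, one_smul] at hzy

theorem hom_smul_inj {x : Ω} (hx : x ∉ P.Blk) {g g' : SL(2, F)}
    (e : P.hom g • x = P.hom g' • x) : g = g' := by
  have := P.eq_one_of_fix (g := g'⁻¹ * g) hx (by rw [map_mul, mul_smul, e, map_inv, inv_smul_smul])
  rw [inv_mul_eq_one] at this
  exact this.symm

theorem blk_smul (g : SL(2, F)) {y : Ω} (hy : y ∈ P.Blk) : P.hom g • y ∈ P.Blk := by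
  rcases hy with rfl | ⟨x, rfl⟩
  · exact P.hom_smul_blk g
  · have e : P.co.z x • (t • a) = P.hom (upSL x * SL2Data.wSL F) • a := by
      rw [map_mul, P.hom_upSL, P.hom_wSL, mul_smul]
    rw [e, ← mul_smul, ← map_mul]
    exact P.hom_smul_blk _

theorem smul_notMem_blk (g : SL(2, F)) {x : Ω} (hx : x ∉ P.Blk) : P.hom g • x ∉ P.Blk := fun h' =>
  hx (by simpa [← mul_smul, ← map_mul] using P.blk_smul g⁻¹ h')

/-- `⟨Z, t⟩` is regular outside the block when `|Q| = q³`. -/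
theorem exists_hom_smul (hQ : Nat.card Q = Nat.card F ^ 3) {x y : Ω} (hx : x ∉ P.Blk) (hy : y ∉ P.Blk) :
    ∃ g : SL(2, F), P.hom g • x = y := by
  haveI := finite_omega P.setup
  letI := Fintype.ofFinite F
  have hc : Nat.card SL(2, F) = Nat.card {z : Ω // z ∉ P.Blk} := by
    have h1 : Nat.card P.Blk + Nat.card {z : Ω // z ∉ P.Blk} = Nat.card Ω := by
      classical
      rw [← Nat.card_sum]; exact Nat.card_congr (Equiv.sumCompl (· ∈ P.Blk))
    rw [P.blk_card, Finite.card_option, card_omega P.setup, hQ] at h1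
    rw [GLOrder.card_SL_two]
    obtain ⟨m, hm⟩ : ∃ m, Nat.card F = m + 1 := ⟨_, (Nat.sub_add_cancel Nat.card_pos).symm⟩
    rw [hm] at h1 ⊢
    rw [show (m + 1) ^ 2 - 1 = m * m + 2 * m by
      rw [show (m + 1) ^ 2 = m * m + 2 * m + 1 by ring, Nat.add_sub_cancel]]
    have e3 : (m + 1) ^ 3 = (m + 1) * (m * m + 2 * m) + (m + 1) := by ring
    omega
  obtain ⟨g, hg⟩ := ((Nat.bijective_iff_injective_and_card
    (fun g : SL(2, F) => (⟨P.hom g • x, P.smul_notMem_blk g hx⟩ : {z : Ω // z ∉ P.Blk}))).2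
    ⟨fun g g' e => P.hom_smul_inj hx (congrArg Subtype.val e), hc⟩).2 ⟨y, hy⟩
  exact ⟨g, congrArg Subtype.val hg⟩

end Frame

end Cfsg.Agent.SuzukiRankOne
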